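import Mathlib

/-!
Finite semifields of characteristic two satisfying both Bol-type laws
`x(xy) = (xx)y`, `(yx)x = y(xx)` and `x(y(xz)) = (x(yx))z` are fields.
-/

set_option autoImplicit false

namespace Cfsg.Agent.TISL2

/-- The hypotheses on the multiplication. -/
structure BolMul (A : Type*) [AddCommGroup A] where
  mul : A →+ A →+ A
  one : A
  one_ne : one ≠ 0
  one_mul : ∀ a, mul one a = a
  mul_one : ∀ a, mul a one = a
  eq_zero : ∀ a b, mul a b = 0 → a = 0 ∨ b = 0
  char_two : ∀ a : A, a + a = 0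
  left_alt : ∀ a b, mul a (mul a b) = mul (mul a a) b
  right_alt : ∀ a b, mul (mul b a) a = mul b (mul a a)
  bol : ∀ a b c, mul a (mul b (mul a c)) = mul (mul a (mul b a)) c

namespace BolMul

variable {A : Type*} [AddCommGroup A] (B : BolMul A)

/-- left multiplication as an endomorphism -/
def lmul (a : A) : AddMonoid.End A := B.mul a

lemma lmul_apply (a b : A) : B.lmul a b = B.mul a b := rfl

lemma lmul_add (a b : A) : B.lmul (a + b) = B.lmul a + B.lmul b := map_add B.mul a b

lemma lmul_zero : B.lmul 0 = 0 := map_zero B.mul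

lemma lmul_one : B.lmul B.one = 1 := AddMonoidHom.ext B.one_mul

lemma lmul_apply_one (a : A) : B.lmul a B.one = a := B.mul_one a

lemma lmul_injective : Function.Injective B.lmul := fun a b h => by
  rw [← B.lmul_apply_one a, h, B.lmul_apply_one]

include B in
lemma eq_of_add_eq_zero {a b : A} (h : a + b = 0) : a = b := by
  have h' : b + b = 0 := B.char_two b
  exact add_right_cancel (h.trans h'.symm)

lemma lmul_sq (a : A) : B.lmul a * B.lmul a = B.lmul (B.mul a a) :=
  AddMonoidHom.ext fun b => B.left_alt a b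

/-- associator -/
def ass (a b c : A) : A := B.mul (B.mul a b) c + B.mul a (B.mul b c)

lemma ass_left (a b : A) : B.ass a a b = 0 := by
  rw [ass, ← B.left_alt]; exact B.char_two _

lemma ass_right (a b : A) : B.ass b a a = 0 := by
  rw [ass, B.right_alt]; exact B.char_two _

lemma ass_swap12 (a b c : A) : B.ass a b c = B.ass b a c := by
  have h := B.ass_left (a + b) c
  have e : B.ass (a + b) (a + b) c = B.ass a a c + B.ass b b c + (B.ass a b c + B.ass b a c) := by
    simp only [ass, map_add, AddMonoidHom.add_apply]; abel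
  rw [e, B.ass_left, B.ass_left, zero_add, zero_add] at h
  exact B.eq_of_add_eq_zero h

lemma ass_swap23 (a b c : A) : B.ass a b c = B.ass a c b := by
  have h := B.ass_right (b + c) a
  have e : B.ass a (b + c) (b + c) = B.ass a b b + B.ass a c c + (B.ass a b c + B.ass a c b) := by
    simp only [ass, map_add, AddMonoidHom.add_apply]; abel
  rw [e, B.ass_right, B.ass_right, zero_add, zero_add] at h
  exact B.eq_of_add_eq_zero h

/-- commuting elements -/
def Comm (a b : A) : Prop := B.mul a b = B.mul b a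

lemma lmul_commute {a b : A} (h : B.Comm a b) : Commute (B.lmul a) (B.lmul b) := by
  apply AddMonoidHom.ext; intro c
  show B.mul a (B.mul b c) = B.mul b (B.mul a c)
  have h1 := B.ass_swap12 a b c
  rw [ass, ass, h] at h1
  exact add_left_cancel h1

lemma comm_of_commute {a b : A} (h : Commute (B.lmul a) (B.lmul b)) : B.Comm a b := by
  have := DFunLike.congr_fun h.eq B.one
  change B.mul a (B.mul b B.one) = B.mul b (B.mul a B.one) at this
  rwa [B.mul_one, B.mul_one] at this

lemma lmul_triple (a b : A) : B.lmul a * B.lmul b * B.lmul a = B.lmul (B.mul a (B.mul b a)) :=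
  AddMonoidHom.ext fun c => B.bol a b c

lemma pow_eq_lmul (a : A) : ∀ n : ℕ, B.lmul a ^ n = B.lmul ((B.lmul a ^ n) B.one)
  | 0 => by rw [pow_zero]; exact B.lmul_one.symm
  | 1 => by rw [pow_one, B.lmul_apply_one]
  | n + 2 => by
    have ih := pow_eq_lmul a n
    have hsplit : B.lmul a ^ (n + 2) = B.lmul a * B.lmul a ^ n * B.lmul a := by
      rw [← pow_succ', ← pow_succ]
    conv_lhs => rw [hsplit, ih, B.lmul_triple]
    congr 1
    rw [hsplit]
    show _ = B.mul a ((B.lmul a ^ n) (B.mul a B.one))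
    rw [B.mul_one]
    conv_rhs => rw [ih]
    rfl

lemma exists_pow (a : A) (n : ℕ) : ∃ c, B.lmul a ^ n = B.lmul c := ⟨_, B.pow_eq_lmul a n⟩

lemma lmul_apply_injective {a : A} (ha : a ≠ 0) : Function.Injective (B.lmul a) := by
  intro b c h
  change B.mul a b = B.mul a c at h
  have h1 : B.mul a (b - c) = 0 := by rw [map_sub, h, sub_self]
  rcases B.eq_zero a _ h1 with h2 | h2
  · exact absurd h2 ha
  · exact sub_eq_zero.1 h2

variable [Finite A]

lemma exists_odd_pow {a : A} (ha : a ≠ 0) : ∃ N : ℕ, Odd N ∧ B.lmul a ^ N = 1 := by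
  haveI : Finite (AddMonoid.End A) := Finite.of_injective (fun f => (f : A → A)) DFunLike.coe_injective
  have hu : IsUnit (B.lmul a) := by
    let e := AddEquiv.ofBijective (B.lmul a)
      (Finite.injective_iff_bijective.1 (B.lmul_apply_injective ha))
    exact ⟨⟨B.lmul a, (e.symm : A →+ A), AddMonoidHom.ext fun x => e.apply_symm_apply x,
      AddMonoidHom.ext fun x => e.symm_apply_apply x⟩, rfl⟩
  have hfin : IsOfFinOrder (B.lmul a) := by
    obtain ⟨u, hu⟩ := hu
    rw [← hu]
    exact (Units.isOfFinOrder_val).2 (isOfFinOrder_of_finite u)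
  refine ⟨orderOf (B.lmul a), ?_, pow_orderOf_eq_one _⟩
  rw [← Nat.not_even_iff_odd]
  rintro ⟨k, hk⟩
  have hpos : 0 < k := by have := hfin.orderOf_pos; omega
  obtain ⟨c, hc⟩ := B.exists_pow a k
  have h2 : B.lmul c * B.lmul c = 1 := by rw [← hc, ← pow_add, ← hk]; exact pow_orderOf_eq_one _
  have h1 : c = B.one := by
    by_contra hne
    have hd : c + B.one ≠ 0 := fun h => hne (B.eq_of_add_eq_zero h)
    have hz : B.lmul (c + B.one) * B.lmul (c + B.one) = 0 := by
      rw [B.lmul_add, B.lmul_one, add_mul, mul_add, mul_add, h2, _root_.one_mul, _root_.mul_one, _root_.mul_one]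
      apply AddMonoidHom.ext; intro x
      show x + B.mul c x + (B.mul c x + x) = 0
      rw [show x + B.mul c x + (B.mul c x + x) = (x + x) + (B.mul c x + B.mul c x) by abel,
        B.char_two, B.char_two, add_zero]
    have := DFunLike.congr_fun hz B.one
    exact B.one_ne (B.lmul_apply_injective hd (B.lmul_apply_injective hd
      (this.trans (by rw [map_zero, map_zero]; rfl))))
  rw [h1, B.lmul_one] at hc
  exact pow_ne_one_of_lt_orderOf hpos.ne' (by omega) hc

lemma exists_lmul_mul {a b : A} (h : B.Comm a b) : B.lmul a * B.lmul b = B.lmul (B.mul a b) := by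
  rcases eq_or_ne a 0 with rfl | ha
  · simp [B.lmul_zero]
  obtain ⟨N, ⟨k, hk⟩, hN⟩ := B.exists_odd_pow ha
  obtain ⟨c, hc⟩ := B.exists_pow a (k + 1)
  have hsq : B.lmul a = B.lmul c * B.lmul c := by
    rw [← hc, ← pow_add, show k + 1 + (k + 1) = N + 1 by omega, pow_succ, hN, _root_.one_mul]
  have hcb : Commute (B.lmul c) (B.lmul b) := hc ▸ (B.lmul_commute h).pow_left _
  have h3 : B.lmul a * B.lmul b = B.lmul (B.mul c (B.mul b c)) := by
    rw [← B.lmul_triple, hsq, hcb.eq]
    exact ((hcb.mul_left hcb).eq).trans (mul_assoc _ _ _).symm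
  rw [h3]
  congr 1
  have h4 := DFunLike.congr_fun h3 B.one
  change B.mul a (B.mul b B.one) = B.mul (B.mul c (B.mul b c)) B.one at h4
  rw [B.mul_one, B.mul_one] at h4
  exact h4.symm

lemma mul_assoc_of_comm {a b : A} (h : B.Comm a b) (c : A) :
    B.mul (B.mul a b) c = B.mul a (B.mul b c) :=
  (DFunLike.congr_fun (B.exists_lmul_mul h) c).symm

lemma ass_comm {a b : A} (h : B.Comm a b) (c : A) : B.ass a b c = 0 := by
  rw [ass, B.mul_assoc_of_comm h]; exact B.char_two _

/-- the middle pair commutes -/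
lemma mul_assoc_of_comm_right {b c : A} (h : B.Comm b c) (a : A) :
    B.mul (B.mul a b) c = B.mul a (B.mul b c) := by
  apply B.eq_of_add_eq_zero
  show B.ass a b c = 0
  rw [B.ass_swap12, B.ass_swap23, B.ass_comm h]

/-- the outer pair commutes -/
lemma mul_assoc_of_comm_outer {a c : A} (h : B.Comm a c) (b : A) :
    B.mul (B.mul a b) c = B.mul a (B.mul b c) := by
  apply B.eq_of_add_eq_zero
  show B.ass a b c = 0
  rw [B.ass_swap23, B.ass_comm h]

section Field

variable (S : Set A)

/-- a maximal commuting set -/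
def IsMaxComm : Prop :=
  (∀ a ∈ S, ∀ b ∈ S, B.Comm a b) ∧ ∀ c, (∀ a ∈ S, B.Comm c a) → c ∈ S

omit [Finite A] in
lemma comm_self (a : A) : B.Comm a a := rfl

lemma exists_isMaxComm : ∃ S : Set A, B.IsMaxComm S := by
  obtain ⟨S, hS, hmax⟩ := Set.Finite.exists_maximal
    (Set.toFinite {S : Set A | ∀ a ∈ S, ∀ b ∈ S, B.Comm a b}) ⟨∅, by simp⟩
  refine ⟨S, hS, fun c hc => ?_⟩
  have hins : insert c S ∈ {S : Set A | ∀ a ∈ S, ∀ b ∈ S, B.Comm a b} := by
    intro a ha b hb
    rcases ha with rfl | ha <;> rcases hb with rfl | hb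
    · rfl
    · exact hc b hb
    · exact (hc a ha).symm
    · exact hS a ha b hb
  exact hmax hins (Set.subset_insert c S) (Set.mem_insert c S)

variable {S}

/-- the field of a maximal commuting set, inside the endomorphism ring -/
def toSubring (hS : B.IsMaxComm S) : Subring (AddMonoid.End A) where
  carrier := B.lmul '' S
  one_mem' := ⟨B.one, hS.2 _ fun a _ => show B.mul B.one a = B.mul a B.one by
    rw [B.one_mul, B.mul_one], B.lmul_one⟩
  zero_mem' := ⟨0, hS.2 _ fun a _ => show B.mul 0 a = B.mul a 0 by simp, B.lmul_zero⟩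
  add_mem' := by
    rintro _ _ ⟨a, ha, rfl⟩ ⟨b, hb, rfl⟩
    refine ⟨a + b, hS.2 _ fun c hc => ?_, B.lmul_add a b⟩
    show B.mul (a + b) c = B.mul c (a + b)
    rw [map_add, AddMonoidHom.add_apply, map_add, hS.1 a ha c hc, hS.1 b hb c hc]
  neg_mem' := by
    rintro _ ⟨a, ha, rfl⟩
    refine ⟨a, ha, ?_⟩
    apply eq_neg_of_add_eq_zero_left
    rw [← B.lmul_add, B.char_two, B.lmul_zero]
  mul_mem' := by
    rintro _ _ ⟨a, ha, rfl⟩ ⟨b, hb, rfl⟩
    refine ⟨B.mul a b, hS.2 _ fun c hc => ?_, (B.exists_lmul_mul (hS.1 a ha b hb)).symm⟩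
    apply B.comm_of_commute
    rw [← B.exists_lmul_mul (hS.1 a ha b hb)]
    exact (B.lmul_commute (hS.1 a ha c hc)).mul_left (B.lmul_commute (hS.1 b hb c hc))

variable {hS : B.IsMaxComm S}

lemma toSubring_apply_one (d : B.toSubring hS) :
    (d : AddMonoid.End A) B.one ∈ S ∧ (d : AddMonoid.End A) = B.lmul ((d : AddMonoid.End A) B.one) := by
  obtain ⟨d, a, ha, rfl⟩ := d
  simp only [B.lmul_apply_one]
  exact ⟨ha, trivial⟩

end Field

/-- `y * (d 1) = σ d · y` -/
lemma pow_eigen {S : Set A} (hS : B.IsMaxComm S) {y : A}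
    {σ : B.toSubring hS → B.toSubring hS}
    (hy : ∀ d : B.toSubring hS, B.mul y ((d : AddMonoid.End A) B.one) =
      (σ d : AddMonoid.End A) y) :
    ∀ (n : ℕ) (d : B.toSubring hS), B.mul ((B.lmul y ^ n) B.one) ((d : AddMonoid.End A) B.one) =
      ((σ^[n] d : B.toSubring hS) : AddMonoid.End A) ((B.lmul y ^ n) B.one)
  | 0, d => by simp [B.one_mul]
  | n + 1, d => by
    set Y := (B.lmul y ^ n) B.one with hY
    have ih := pow_eigen hS hy n d
    rw [← hY] at ih
    set d' := σ^[n] d with hd'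
    have hsucc : (B.lmul y ^ (n + 1)) B.one = B.mul y Y := by rw [pow_succ']; rfl
    have hyY : B.Comm y Y := by
      apply B.comm_of_commute
      rw [hY, ← B.pow_eq_lmul]
      exact Commute.self_pow _ _
    obtain ⟨hm', he'⟩ := B.toSubring_apply_one d'
    obtain ⟨hm'', he''⟩ := B.toSubring_apply_one (σ d')
    rw [hsucc, B.mul_assoc_of_comm hyY, ih, Function.iterate_succ_apply', ← hd', he', he'']
    show B.mul y (B.mul _ Y) = B.mul _ (B.mul y Y)
    rw [← B.mul_assoc_of_comm_outer hyY, hy d', he'', B.lmul_apply_one]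
    show B.mul (B.mul _ y) Y = _
    exact B.mul_assoc_of_comm_right hyY _

theorem comm_assoc : (∀ a b, B.mul a b = B.mul b a) ∧
    ∀ a b c, B.mul (B.mul a b) c = B.mul a (B.mul b c) := by
  suffices h : ∀ a b, B.mul a b = B.mul b a by
    exact ⟨h, fun a b c => B.mul_assoc_of_comm (h a b) c⟩
  obtain ⟨S, hS⟩ := B.exists_isMaxComm
  suffices hall : ∀ y, y ∈ S from fun a b => hS.1 a (hall a) b (hall b)
  intro z
  by_contra hz
  haveI : Finite (AddMonoid.End A) := Finite.of_injective (fun f => (f : A → A)) DFunLike.coe_injective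
  let R := B.toSubring hS
  have happ : ∀ d : R, (d : AddMonoid.End A) B.one ∈ S ∧
      (d : AddMonoid.End A) = B.lmul ((d : AddMonoid.End A) B.one) :=
    fun d => B.toSubring_apply_one d
  have hRcomm : ∀ d e : R, d * e = e * d := fun d e => Subtype.ext (by
    show (d : AddMonoid.End A) * e = e * d
    rw [(happ d).2, (happ e).2]
    exact (B.lmul_commute (hS.1 _ (happ d).1 _ (happ e).1)).eq)
  letI : CommRing R := { (inferInstance : Ring R) with mul_comm := hRcomm }
  have hinj : ∀ d : R, d ≠ 0 → Function.Injective (d : AddMonoid.End A) := by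
    intro d hd
    rw [(happ d).2]
    refine B.lmul_apply_injective fun h0 => hd (Subtype.ext ?_)
    rw [(happ d).2, h0, B.lmul_zero]; rfl
  haveI : Nontrivial R := ⟨⟨0, 1, fun h =>
    B.one_ne (DFunLike.congr_fun (congrArg Subtype.val h) B.one).symm⟩⟩
  haveI : NoZeroDivisors R := ⟨fun {d e} h => by
    by_contra hne; push Not at hne
    apply hne.2
    apply Subtype.ext; apply AddMonoidHom.ext; intro a
    exact hinj d hne.1 ((DFunLike.congr_fun (congrArg Subtype.val h) a).trans
      (map_zero (d : AddMonoid.End A)).symm)⟩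
  haveI : IsDomain R := NoZeroDivisors.to_isDomain R
  letI : Field R := (Finite.isField_of_domain R).toField
  letI : Fintype R := Fintype.ofFinite R
  haveI : CharP R 2 := by
    have h2 : ((2 : ℕ) : R) = 0 := by
      apply Subtype.ext; apply AddMonoidHom.ext; intro a
      push_cast
      rw [← one_add_one_eq_two]
      exact B.char_two a
    exact CharP.ringChar_of_prime_eq_zero Nat.prime_two h2 ▸ ringChar.charP R
  letI : Algebra (ZMod 2) R := ZMod.algebra R 2
  have hmul : ∀ d e : R, (d * e : R).1 B.one = B.mul (d.1 B.one) (e.1 B.one) := by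
    intro d e
    show d.1 (e.1 B.one) = _
    exact DFunLike.congr_fun (happ d).2 _
  have hlin : ∀ (d e : R) (a : A), B.mul (d • a) (e.1 B.one) = d • B.mul a (e.1 B.one) := by
    intro d e a
    show B.mul (d.1 a) _ = d.1 (B.mul a _)
    rw [(happ d).2]
    exact B.mul_assoc_of_comm_outer (hS.1 _ (happ d).1 _ (happ e).1) a
  have hsm0 : ∀ (d : R) {a : A}, d • a = 0 → a ≠ 0 → d = 0 := by
    intro d a h ha
    by_contra hd
    exact ha (hinj d hd (h.trans (map_zero d.1).symm))
  obtain ⟨u0, hu0⟩ := IsCyclic.exists_generator (α := Rˣ)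
  set x : R := (u0 : R) with hxdef
  have hgen : ∀ d : R, d = 0 ∨ ∃ i : ℕ, d = x ^ i := by
    intro d
    rcases eq_or_ne d 0 with h | h
    · exact Or.inl h
    · obtain ⟨i, hi⟩ := (mem_powers_iff_mem_zpowers).2 (hu0 (Units.mk0 d h))
      exact Or.inr ⟨i, by have := congrArg Units.val hi; simpa [hxdef] using this.symm⟩
  let T : Module.End R A :=
    { toFun := fun y => B.mul y (x.1 B.one)
      map_add' := fun a b => by rw [map_add, AddMonoidHom.add_apply]
      map_smul' := fun d a => hlin d x a }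
  have hTpow : ∀ (n : ℕ) (y : A), (T ^ n) y = B.mul y ((x ^ n : R).1 B.one) := by
    intro n
    induction n with
    | zero => intro y; simp [B.mul_one]
    | succ n ih =>
      intro y
      rw [pow_succ', Module.End.mul_apply, ih, pow_succ, hmul]
      exact B.mul_assoc_of_comm_right (hS.1 _ (happ _).1 _ (happ _).1) y
  have hNz : T z - x • z ≠ 0 := by
    intro h0
    apply hz
    have hc : Commute (B.lmul z) x.1 := by
      rw [(happ x).2]
      apply B.lmul_commute
      have h1 : B.mul z (x.1 B.one) = x.1 z := sub_eq_zero.1 h0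
      show B.mul z (x.1 B.one) = B.mul (x.1 B.one) z
      rw [h1]
      exact DFunLike.congr_fun (happ x).2 z
    refine hS.2 z fun a ha => B.comm_of_commute ?_
    rcases hgen ⟨B.lmul a, a, ha, rfl⟩ with h | ⟨i, h⟩
    · rw [show B.lmul a = 0 from congrArg Subtype.val h]; exact Commute.zero_right _
    · rw [show B.lmul a = x.1 ^ i from congrArg Subtype.val h]; exact hc.pow_right i
  obtain ⟨y, μ, hy0, hμx, hTy⟩ : ∃ (y : A) (μ : R), y ≠ 0 ∧ μ ≠ x ∧ T y = μ • y := by
    by_contra hno
    push Not at hno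
    classical
    set P : Polynomial R := ∏ c ∈ Finset.univ.erase x, (Polynomial.X - Polynomial.C c) with hP
    have hPinj : Function.Injective (Polynomial.aeval T P) := by
      refine Finset.prod_induction _ (fun p => Function.Injective (Polynomial.aeval T p)) ?_ ?_ ?_
      · intro p p' hp hp'
        rw [map_mul]
        exact hp.comp hp'
      · rw [map_one]; exact Function.injective_id
      · intro c hc
        rw [← LinearMap.ker_eq_bot, LinearMap.ker_eq_bot']
        intro a ha
        by_contra ha0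
        simp only [map_sub, Polynomial.aeval_X, Polynomial.aeval_C, LinearMap.sub_apply,
          Module.algebraMap_end_apply, sub_eq_zero] at ha
        exact hno a c ha0 (Finset.ne_of_mem_erase hc) ha
    have hprod : P * (Polynomial.X - Polynomial.C x) =
        Polynomial.X ^ Fintype.card R - Polynomial.X := by
      have hmon : (Polynomial.X ^ Fintype.card R - Polynomial.X : Polynomial R).Monic :=
        Polynomial.monic_X_pow_sub (by rw [Polynomial.degree_X]; exact_mod_cast Fintype.one_lt_card)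
      have hroots := FiniteField.roots_X_pow_card_sub_X R
      have hcard : (Polynomial.X ^ Fintype.card R - Polynomial.X : Polynomial R).roots.card =
          (Polynomial.X ^ Fintype.card R - Polynomial.X : Polynomial R).natDegree := by
        rw [hroots, FiniteField.X_pow_card_sub_X_natDegree_eq R Fintype.one_lt_card]; rfl
      rw [hP, mul_comm, Finset.mul_prod_erase Finset.univ (fun c : R => Polynomial.X - Polynomial.C c) (Finset.mem_univ x),
        ← Polynomial.prod_multiset_X_sub_C_of_monic_of_roots_card_eq hmon hcard, hroots]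
      rfl
    have h0 : Polynomial.aeval T (P * (Polynomial.X - Polynomial.C x)) z = 0 := by
      rw [hprod]
      simp only [map_sub, map_pow, Polynomial.aeval_X, LinearMap.sub_apply]
      rw [hTpow, FiniteField.pow_card]
      exact sub_self _
    rw [map_mul, Module.End.mul_apply] at h0
    apply hNz
    have h1 : Polynomial.aeval T (Polynomial.X - Polynomial.C x) z = 0 :=
      hPinj (h0.trans (map_zero _).symm)
    simpa using h1
  have hσex : ∀ d : R, ∃ d' : R, B.mul y (d.1 B.one) = d' • y := by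
    intro d
    rcases hgen d with rfl | ⟨i, rfl⟩
    · exact ⟨0, by simp⟩
    · refine ⟨μ ^ i, ?_⟩
      rw [← hTpow]
      induction i with
      | zero => simp
      | succ i ih => rw [pow_succ', Module.End.mul_apply, ih, map_smul, hTy, smul_smul, pow_succ]
  choose σ0 hσ0 using hσex
  have huniq : ∀ (d : R) (d' : R), B.mul y (d.1 B.one) = d' • y → σ0 d = d' := by
    intro d d' h
    have := hsm0 (σ0 d - d') (by rw [sub_smul, ← hσ0, h, sub_self]) hy0
    exact sub_eq_zero.1 this
  let σ : R →+* R :=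
    { toFun := σ0
      map_one' := huniq _ _ (by simp [B.mul_one])
      map_mul' := fun a b => huniq _ _ (by
        rw [hmul, ← B.mul_assoc_of_comm_right (hS.1 _ (happ _).1 _ (happ _).1), hσ0 a, hlin,
          hσ0 b, smul_smul])
      map_zero' := huniq _ _ (by simp)
      map_add' := fun a b => huniq _ _ (by
        show B.mul y (a.1 B.one + b.1 B.one) = _
        rw [map_add, hσ0 a, hσ0 b, add_smul]) }
  have hσc : ∀ c : ZMod 2, σ (algebraMap (ZMod 2) R c) = algebraMap (ZMod 2) R c := fun c =>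
    RingHom.congr_fun
      (RingHom.ext_zmod (σ.comp (algebraMap (ZMod 2) R)) (algebraMap (ZMod 2) R)) c
  let σA : R →ₐ[ZMod 2] R := { σ with commutes' := hσc }
  let σE : R ≃ₐ[ZMod 2] R :=
    AlgEquiv.ofBijective σA (Finite.injective_iff_bijective.1 σ.injective)
  set D := Module.finrank (ZMod 2) R with hD
  obtain ⟨⟨k, hkD⟩, hk⟩ :=
    (FiniteField.bijective_frobeniusAlgEquivOfAlgebraic_pow (ZMod 2) R).2 σE
  have hσk : ∀ d : R, σ0 d = d ^ (2 ^ k) := by
    intro d
    have h1 := DFunLike.congr_fun hk d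
    simp only [AlgEquiv.coe_pow, FiniteField.coe_frobeniusAlgEquivOfAlgebraic_iterate, ZMod.card] at h1
    exact h1.symm
  have hk0 : k ≠ 0 := by
    intro h
    apply hμx
    have h1 : σ0 x = μ := huniq _ _ hTy
    rw [← h1, hσk, h, pow_zero, pow_one]
  have hcardR : Fintype.card R = 2 ^ D := by
    rw [Module.card_eq_pow_finrank (K := ZMod 2), ZMod.card]
  set g0 := Nat.gcd k D with hg0
  have hg0pos : 0 < g0 := Nat.gcd_pos_of_pos_left _ (Nat.pos_of_ne_zero hk0)
  have hg0D : g0 < D := lt_of_le_of_lt (Nat.gcd_le_left _ (Nat.pos_of_ne_zero hk0)) hkD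
  obtain ⟨m, -, hm⟩ := Nat.exists_mul_mod_eq_gcd (n := k) (k := D) hg0D
  have hσm : ∀ (n : ℕ) (d : R), (σ0^[n]) d = d ^ (2 ^ (k * n)) := by
    intro n d
    induction n with
    | zero => simp
    | succ n ih => rw [Function.iterate_succ_apply', ih, hσk, ← pow_mul, ← pow_add]; ring_nf
  set Y := (B.lmul y ^ m) B.one with hYdef
  set Q := 2 ^ g0 with hQ
  have hYQ : ∀ d : R, B.mul Y (d.1 B.one) = (d ^ Q) • Y := by
    intro d
    have he : σ0^[m] d = d ^ Q := by
      rw [hσm, ← Nat.mod_add_div (k * m) D, hm, pow_add, pow_mul 2 D, ← hcardR, pow_mul,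
        FiniteField.pow_card_pow]
    rw [hYdef, B.pow_eigen hS hσ0 m d, he]
    rfl
  have hpow_ne : ∀ {a : A}, a ≠ 0 → ∀ n : ℕ, (B.lmul a ^ n) B.one ≠ 0 := by
    intro a ha n
    induction n with
    | zero => exact B.one_ne
    | succ n ih =>
      rw [pow_succ']
      exact fun h => ih (B.lmul_apply_injective ha (h.trans (map_zero (B.lmul a)).symm))
  have hY0 : Y ≠ 0 := hpow_ne hy0 m
  obtain ⟨r, hr⟩ : g0 ∣ D := Nat.gcd_dvd_right _ _
  have hr2 : 2 ≤ r := by
    by_contra h
    interval_cases r <;> omega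
  set W : ℕ → A := fun n => (B.lmul Y ^ n) B.one with hW
  have hWQ : ∀ (n : ℕ) (d : R), B.mul (W n) (d.1 B.one) = (d ^ (Q ^ n)) • W n := by
    intro n d
    have h1 := B.pow_eigen hS (σ := fun d : R => d ^ Q) hYQ n d
    rw [pow_iterate] at h1
    exact h1
  have hQr : Q ^ r = Fintype.card R := by rw [hcardR, hr, hQ, ← pow_mul]
  have hwS : W r ∈ S := by
    refine hS.2 _ fun a ha => ?_
    have h1 := hWQ r ⟨B.lmul a, a, ha, rfl⟩
    rw [hQr, FiniteField.pow_card] at h1
    show B.mul (W r) a = B.mul a (W r)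
    simp only [B.lmul_apply_one] at h1
    exact h1
  let ω : R := ⟨B.lmul (W r), W r, hwS, rfl⟩
  have hω0 : ω ≠ 0 := fun h => hpow_ne hY0 r (by
    have := DFunLike.congr_fun (congrArg Subtype.val h) B.one
    exact (B.lmul_apply_one (W r)).symm.trans this)
  have hωQ : ω ^ Q = ω := by
    have hc : B.Comm Y (W r) := B.comm_of_commute (by
      show Commute (B.lmul Y) (B.lmul ((B.lmul Y ^ r) B.one))
      exact (B.pow_eq_lmul Y r) ▸ Commute.self_pow (B.lmul Y) r)
    have h1 : ω.1 B.one = W r := B.lmul_apply_one _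
    have h2 := hYQ ω
    rw [h1, hc] at h2
    have h3 : (ω ^ Q - ω) • Y = 0 := by
      rw [sub_smul, ← h2]
      exact sub_self _
    exact sub_eq_zero.1 (hsm0 _ h3 hY0)
  set s := ∑ i ∈ Finset.range r, Q ^ i with hs
  have hQ2 : 2 ≤ Q := by
    calc 2 = 2 ^ 1 := (pow_one 2).symm
      _ ≤ Q := Nat.pow_le_pow_right (by norm_num) hg0pos
  have hsQ : s * (Q - 1) = Fintype.card R - 1 := by
    rw [← hQr, hs, Nat.geomSum_eq hQ2 r]
    exact Nat.div_mul_cancel (by simpa using Nat.sub_dvd_pow_sub_pow Q 1 r)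
  have hox : orderOf x = Fintype.card R - 1 := by
    rw [hxdef, orderOf_units, orderOf_eq_card_of_forall_mem_zpowers hu0, Nat.card_units,
      Nat.card_eq_fintype_card]
  obtain ⟨i, hi⟩ := (hgen ω).resolve_left hω0
  have hdiv : s ∣ i := by
    have h1 : ω ^ (Q - 1) = 1 := by
      apply mul_right_cancel₀ hω0
      rw [_root_.one_mul, ← pow_succ, Nat.sub_add_cancel (by omega : 1 ≤ Q), hωQ]
    rw [hi, ← pow_mul, ← orderOf_dvd_iff_pow_eq_one, hox, ← hsQ] at h1
    exact (Nat.mul_dvd_mul_iff_right (by omega : 0 < Q - 1)).1 h1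
  obtain ⟨t, rfl⟩ := hdiv
  have hx0 : x ≠ 0 := Units.ne_zero u0
  obtain ⟨ε, hε⟩ : ∃ ε : R, ε ^ 2 = (x ^ t)⁻¹ := by
    refine ⟨((x ^ t)⁻¹) ^ (2 ^ (D - 1)), ?_⟩
    rw [← pow_mul, ← pow_succ, Nat.sub_add_cancel (by omega : 1 ≤ D), ← hcardR, FiniteField.pow_card]
  have hε0 : ε ≠ 0 := by
    rintro rfl
    exact inv_ne_zero (pow_ne_zero t hx0) (by rw [← hε]; simp)
  set u := ε * ε ^ Q with hu
  have hus : u ^ s * ω = 1 := by
    have h1 : ε ^ (s * (Q - 1)) = 1 := by
      rw [hsQ]; exact FiniteField.pow_card_sub_one_eq_one ε hε0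
    have h2 : u = ε ^ 2 * ε ^ (Q - 1) := by
      rw [hu, ← pow_succ', ← pow_add]; congr 1; omega
    rw [h2, mul_pow, ← pow_mul ε (Q - 1), mul_comm (Q - 1), h1, _root_.mul_one, hε, hi, inv_pow,
      ← pow_mul, mul_comm t s, inv_mul_cancel₀ (pow_ne_zero _ hx0)]
  set z1 := B.mul (ε.1 B.one) (B.mul Y (ε.1 B.one)) with hz1
  have hLz1 : B.lmul z1 = ε.1 * B.lmul Y * ε.1 := by
    rw [hz1, ← B.lmul_triple, ← (happ ε).2]
  have hstep : ∀ (n : ℕ) (c : R), B.mul Y (c • W n) = (c ^ Q) • W (n + 1) := by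
    intro n c
    have hc : B.Comm Y (W n) := B.comm_of_commute (by
      show Commute (B.lmul Y) (B.lmul ((B.lmul Y ^ n) B.one))
      exact (B.pow_eq_lmul Y n) ▸ Commute.self_pow (B.lmul Y) n)
    have hW1 : W (n + 1) = B.mul Y (W n) := by simp only [hW]; rw [pow_succ']; rfl
    rw [hW1]
    show B.mul Y (c.1 (W n)) = (c ^ Q : R).1 (B.mul Y (W n))
    rw [(happ c).2, (happ (c ^ Q)).2]
    show B.mul Y (B.mul _ (W n)) = B.mul _ (B.mul Y (W n))
    rw [← B.mul_assoc_of_comm_outer hc, hYQ]
    show B.mul ((c ^ Q : R).1 Y) (W n) = _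
    rw [(happ (c ^ Q)).2, B.lmul_apply_one]
    exact B.mul_assoc_of_comm_right hc _
  have hZ : ∀ n, (B.lmul z1 ^ n) B.one = (u ^ (∑ i ∈ Finset.range n, Q ^ i)) • W n := by
    intro n
    induction n with
    | zero => simp [hW]
    | succ n ih =>
      rw [pow_succ']
      show B.lmul z1 ((B.lmul z1 ^ n) B.one) = _
      rw [ih, hLz1]
      show ε • (B.mul Y (ε • (_ • W n))) = _
      rw [smul_smul, hstep, smul_smul]
      congr 1
      rw [geom_sum_succ, pow_add, pow_one, mul_comm Q, pow_mul, mul_pow, ← mul_assoc, ← hu]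
      ring
  have hz1r : B.lmul z1 ^ r = 1 := by
    have h1 : (B.lmul z1 ^ r) B.one = B.one := by
      rw [hZ, ← hs]
      have h2 : ω • B.one = W r := B.lmul_apply_one _
      rw [← h2, smul_smul, hus, one_smul]
    rw [B.pow_eq_lmul, h1, B.lmul_one]
  have hev : ∀ i : Fin r, Module.End.HasEigenvector T (x ^ (Q ^ (i : ℕ)))
      ((B.lmul z1 ^ (i : ℕ)) B.one) := by
    intro i
    rw [Module.End.hasEigenvector_iff]
    refine ⟨Module.End.mem_eigenspace_iff.2 ?_, ?_⟩
    · rw [hZ, map_smul]
      show _ • B.mul (W i) (x.1 B.one) = _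
      rw [hWQ, smul_smul, smul_smul, mul_comm]
    · rw [hZ]
      intro h
      exact pow_ne_zero _ (mul_ne_zero hε0 (pow_ne_zero _ hε0)) (hsm0 _ h (hpow_ne hY0 _))
  have hdist : Function.Injective fun i : Fin r => x ^ (Q ^ (i : ℕ)) := by
    intro i j h
    have hlt : ∀ i : Fin r, Q ^ (i : ℕ) < orderOf x := by
      intro i
      have h1 : Q ^ (i : ℕ) * Q ≤ Q ^ r := by
        rw [← pow_succ]; exact Nat.pow_le_pow_right (by omega) i.2
      have h2 : Q ^ (i : ℕ) * 2 ≤ Q ^ r := le_trans (Nat.mul_le_mul_left _ hQ2) h1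
      have h4 : 4 ≤ Q ^ r := le_trans (by norm_num : 4 ≤ 2 ^ 2)
        (le_trans (Nat.pow_le_pow_left hQ2 2) (Nat.pow_le_pow_right (by omega) hr2))
      rw [hox, ← hQr]
      omega
    exact Fin.ext (Nat.pow_right_injective hQ2 (pow_injOn_Iio_orderOf (hlt i) (hlt j) h))
  have hli := Module.End.eigenvectors_linearIndependent' T _ hdist _ hev
  have hz1e : z1 - B.one ≠ 0 := by
    intro h0
    have h1 : (B.lmul z1 ^ ((⟨1, hr2⟩ : Fin r) : ℕ)) B.one =
        (B.lmul z1 ^ ((⟨0, by omega⟩ : Fin r) : ℕ)) B.one := by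
      rw [pow_one, pow_zero, B.lmul_apply_one]
      exact sub_eq_zero.1 h0
    exact absurd (hli.injective h1) (by simp [Fin.ext_iff])
  have hsum : (∑ i ∈ Finset.range r, B.lmul z1 ^ i) B.one = 0 := by
    apply B.lmul_apply_injective hz1e
    have h1 := DFunLike.congr_fun (mul_geom_sum (B.lmul z1) r) B.one
    rw [hz1r, sub_self, show B.lmul z1 - 1 = B.lmul (z1 - B.one) by
      rw [show B.lmul (z1 - B.one) = B.lmul z1 - B.lmul B.one from map_sub B.mul _ _,
        B.lmul_one]] at h1
    exact h1.trans (map_zero (B.lmul (z1 - B.one))).symm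
  let evh : AddMonoid.End A →+ A :=
    { toFun := fun f => f B.one, map_zero' := rfl, map_add' := fun _ _ => rfl }
  change evh (∑ i ∈ Finset.range r, B.lmul z1 ^ i) = 0 at hsum
  rw [map_sum] at hsum
  have h1 := Fintype.linearIndependent_iff.1 hli (fun _ => (1 : R)) (by
    simp only [one_smul]
    rw [Fin.sum_univ_eq_sum_range (fun i => (B.lmul z1 ^ i) B.one) r]
    exact hsum) ⟨0, by omega⟩
  exact one_ne_zero h1

end BolMul

end Cfsg.Agent.TISL2
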