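import Mathlib
import Cfsg.Agent.Lib.TISL2.Semifield

/-!
A nondegenerate biadditive map `β : U × Y → V` of finite elementary abelian 2-groups, for which the inverses of
the partial maps on either side form an additive set (together with zero), is field multiplication.
-/

set_option autoImplicit false

namespace Cfsg.Agent.TISL2

universe u

variable {U Y V : Type u} [AddCommGroup U] [AddCommGroup Y] [AddCommGroup V]

/-- the inverses of the maps `β a`, together with zero, form an additive set -/
def InvAdditive (β : U →+ Y →+ V) : Prop :=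
  ∀ a b, a ≠ 0 → b ≠ 0 → a ≠ b → ∃ c, ∀ y y', β a y = β b y' → β c (y + y') = β a y

/-- Hua's identity -/
lemma exists_triple (β : U →+ Y →+ V) (hU : ∀ a : U, a + a = 0) (h : InvAdditive β)
    (a b : U) (hb : b ≠ 0) (hinj : ∀ a, a ≠ 0 → Function.Injective (β a)) :
    ∃ c, ∀ y y', β b y' = β a y → β c y = β a y' := by
  rcases eq_or_ne a 0 with rfl | ha
  · exact ⟨0, fun y y' _ => by simp⟩
  rcases eq_or_ne a b with rfl | hab
  · exact ⟨a, fun y y' h' => by rw [hinj a ha h']⟩
  have had : a ≠ a + b := fun h' => hb (left_eq_add.1 h')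
  have hd : a + b ≠ 0 := fun h' => hab (add_right_cancel (h'.trans (hU b).symm))
  obtain ⟨c, hc⟩ := h a (a + b) ha hd had
  refine ⟨a + c, fun y y' h' => ?_⟩
  have h1 : β a (y + y') = β (a + b) y' := by
    simp only [map_add, AddMonoidHom.add_apply, h']; abel
  have h2 := hc _ _ h1
  have hy' : y + y' + y' = y := by
    have : y' + y' = 0 := by
      apply hinj a ha
      rw [map_zero, map_add, ← AddMonoidHom.add_apply, ← map_add, hU, map_zero, AddMonoidHom.zero_apply]
    rw [add_assoc, this, add_zero]
  have h3 : β a y + β a y = 0 := by rw [← AddMonoidHom.add_apply, ← map_add, hU, map_zero, AddMonoidHom.zero_apply]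
  rw [hy'] at h2
  rw [map_add, AddMonoidHom.add_apply, h2, map_add, ← add_assoc, h3, zero_add]

theorem exists_field [Finite V] (β : U →+ Y →+ V) (hU : ∀ a : U, a + a = 0) (hY : ∀ a : Y, a + a = 0)
    (hl : ∀ a, a ≠ 0 → Function.Bijective (β a))
    (hr : ∀ y, y ≠ 0 → Function.Bijective (β.flip y))
    (Hl : InvAdditive β) (Hr : InvAdditive β.flip)
    (u₁ : U) (y₁ : Y) (hu₁ : u₁ ≠ 0) (hy₁ : y₁ ≠ 0) :
    ∃ (F : Type) (_ : Field F) (_ : Fintype F) (φU : F ≃+ U) (φY : F ≃+ Y) (φV : F ≃+ V),
      φU 1 = u₁ ∧ φY 1 = y₁ ∧ ∀ s t, β (φU s) (φY t) = φV (s * t) := by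
  let lam : U ≃+ V := AddEquiv.ofBijective (β.flip y₁) (hr y₁ hy₁)
  let rho : Y ≃+ V := AddEquiv.ofBijective (β u₁) (hl u₁ hu₁)
  have hlam : ∀ a, lam a = β a y₁ := fun a => rfl
  have hrho : ∀ y, rho y = β u₁ y := fun y => rfl
  let μ : V →+ V →+ V :=
    (((β.comp lam.symm.toAddMonoidHom).flip).comp rho.symm.toAddMonoidHom).flip
  have hμ : ∀ s t, μ s t = β (lam.symm s) (rho.symm t) := fun s t => rfl
  set e := β u₁ y₁ with he
  have hle : lam.symm e = u₁ := lam.symm_apply_eq.2 rfl
  have hre : rho.symm e = y₁ := rho.symm_apply_eq.2 rfl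
  have h1l : ∀ t, μ e t = t := fun t => by rw [hμ, hle, ← hrho, rho.apply_symm_apply]
  have h1r : ∀ t, μ t e = t := fun t => by rw [hμ, hre, ← hlam, lam.apply_symm_apply]
  have hne : e ≠ 0 := fun h => hy₁ ((hl u₁ hu₁).1 (h.trans (map_zero (β u₁)).symm))
  have hz : ∀ s t, μ s t = 0 → s = 0 ∨ t = 0 := by
    intro s t h
    rcases eq_or_ne s 0 with hs | hs
    · exact Or.inl hs
    right
    have := (hl (lam.symm s) (fun h0 => hs (by rw [← lam.apply_symm_apply s, h0, map_zero]))).1
      ((hμ s t ▸ h).trans (map_zero _).symm)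
    rw [← rho.apply_symm_apply t, this, map_zero]
  have hV : ∀ v : V, v + v = 0 := fun v => by
    obtain ⟨a, rfl⟩ := lam.surjective v
    rw [← map_add, hU, map_zero]
  have hrinj : ∀ y, y ≠ 0 → Function.Injective (β.flip y) := fun y hy => (hr y hy).1
  have hlinj : ∀ a, a ≠ 0 → Function.Injective (β a) := fun a ha => (hl a ha).1
  let B : BolMul V :=
    { mul := μ
      one := e
      one_ne := hne
      one_mul := h1l
      mul_one := h1r
      eq_zero := hz
      char_two := hV
      left_alt := fun s t => by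
        obtain ⟨c, hc⟩ := exists_triple β hU Hl (lam.symm s) u₁ hu₁ hlinj
        have key : ∀ t, μ s (μ s t) = μ (lam c) t := fun t => by
          rw [hμ (lam c), lam.symm_apply_apply, hμ s (μ s t)]
          exact (hc _ _ (by rw [← hrho, rho.apply_symm_apply, hμ])).symm
        have hss : μ s s = lam c := by
          have := key e
          rwa [h1r, h1r] at this
        rw [key, hss]
      right_alt := fun s t => by
        obtain ⟨c, hc⟩ := exists_triple β.flip hY Hr (rho.symm s) y₁ hy₁ hrinj
        have key : ∀ t, μ (μ t s) s = μ t (rho c) := fun t => by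
          rw [hμ t (rho c), rho.symm_apply_apply, hμ (μ t s) s]
          exact (hc _ _ (show β (lam.symm (μ t s)) y₁ = β (lam.symm t) (rho.symm s) by
            rw [← hlam, lam.apply_symm_apply, hμ])).symm
        have hss : μ s s = rho c := by
          have := key e
          rwa [h1l, h1l] at this
        rw [key, hss]
      bol := fun s b t => by
        have key : ∃ d, ∀ t, μ s (μ b (μ s t)) = μ d t := by
          rcases eq_or_ne b 0 with rfl | hb
          · exact ⟨0, fun t => by simp⟩
          rcases eq_or_ne s 0 with rfl | hs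
          · exact ⟨0, fun t => by simp⟩
          have hb' : lam.symm b ≠ 0 := fun h0 => hb (by rw [← lam.apply_symm_apply b, h0, map_zero])
          obtain ⟨c1, hc1⟩ := exists_triple β hU Hl u₁ (lam.symm b) hb' hlinj
          have hc10 : c1 ≠ 0 := by
            rintro rfl
            obtain ⟨y', hy'⟩ := (hl (lam.symm b) hb').2 (β u₁ y₁)
            have := hc1 y₁ y' hy'
            rw [map_zero, AddMonoidHom.zero_apply] at this
            have h0 := (hl u₁ hu₁).1 (this.symm.trans (map_zero _).symm)
            rw [h0, map_zero] at hy'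
            exact hne hy'.symm
          obtain ⟨c, hc⟩ := exists_triple β hU Hl (lam.symm s) c1 hc10 hlinj
          refine ⟨lam c, fun t => ?_⟩
          rw [hμ (lam c), lam.symm_apply_apply, hμ s (μ b (μ s t))]
          refine (hc _ _ ?_).symm
          have h1 : β (lam.symm b) (rho.symm (μ s t)) = β u₁ (rho.symm (μ b (μ s t))) := by
            rw [← hrho, rho.apply_symm_apply, hμ b]
          rw [hc1 _ _ h1, ← hrho, rho.apply_symm_apply, hμ]
        obtain ⟨d, hd⟩ := key
        have h2 := hd e
        rw [h1r, h1r] at h2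
        rw [hd, ← h2] }
  obtain ⟨hcomm, hassoc⟩ := B.comm_assoc
  letI : Mul V := ⟨fun a b => μ a b⟩
  letI : One V := ⟨e⟩
  letI R : CommRing V :=
    { (inferInstance : AddCommGroup V) with
      mul := fun a b => μ a b
      one := e
      mul_assoc := hassoc
      one_mul := h1l
      mul_one := h1r
      mul_comm := hcomm
      left_distrib := fun a b c => map_add (μ a) b c
      right_distrib := fun a b c => by
        show μ (a + b) c = μ a c + μ b c
        rw [map_add, AddMonoidHom.add_apply]
      zero_mul := fun a => by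
        show μ 0 a = 0
        rw [map_zero, AddMonoidHom.zero_apply]
      mul_zero := fun a => map_zero (μ a) }
  haveI : Nontrivial V := ⟨⟨e, 0, hne⟩⟩
  haveI : NoZeroDivisors V := ⟨fun {a b} h => hz a b h⟩
  haveI : IsDomain V := NoZeroDivisors.to_isDomain V
  have hf : IsField V := Finite.isField_of_domain V
  let ψ : Shrink.{0} V ≃+* V := Shrink.ringEquiv.{0, u} V
  haveI : Finite (Shrink.{0} V) := Finite.of_equiv V ψ.symm.toEquiv
  letI : Field (Shrink.{0} V) := (MulEquiv.isField hf ψ.toMulEquiv).toField
  refine ⟨Shrink.{0} V, inferInstance, Fintype.ofFinite _, ψ.toAddEquiv.trans lam.symm,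
    ψ.toAddEquiv.trans rho.symm, ψ.toAddEquiv, ?_, ?_, ?_⟩
  · show lam.symm (ψ 1) = u₁
    rw [map_one]; exact hle
  · show rho.symm (ψ 1) = y₁
    rw [map_one]; exact hre
  · intro s t
    show β (lam.symm (ψ s)) (rho.symm (ψ t)) = ψ (s * t)
    rw [map_mul]; rfl

end Cfsg.Agent.TISL2
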