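import Mathlib
import Cfsg.Agent.Lib.PGroup.Critical

/-!
The set-up of the TI lemma: a TI elementary abelian 2-subgroup `V` which is a maximal abelian normal subgroup of
its normalizer `M`, with `Q = O₂(M)` self-centralizing in `M`. Here `P = C_Q(V)` has `Φ(P) ≤ V = Z(P)`.
-/

set_option autoImplicit false

namespace Cfsg.Agent.TISL2

open Subgroup
open scoped commutatorElement

variable {G : Type*} [Group G]

/-- conjugate of a subgroup -/
def cj (g : G) (H : Subgroup G) : Subgroup G := H.map (MulAut.conj g).toMonoidHom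

lemma mem_cj {g x : G} {H : Subgroup G} : x ∈ cj g H ↔ g⁻¹ * x * g ∈ H := by
  constructor
  · rintro ⟨h, hh, rfl⟩
    simpa [mul_assoc] using hh
  · intro h
    exact ⟨_, h, by simp [mul_assoc]⟩

lemma conj_mem_cj {g h : G} {H : Subgroup G} (hh : h ∈ H) : g * h * g⁻¹ ∈ cj g H :=
  mem_cj.2 (by simpa [mul_assoc] using hh)

lemma cj_cj (g k : G) (H : Subgroup G) : cj g (cj k H) = cj (g * k) H := by
  ext x; simp [mem_cj, mul_assoc]

lemma cj_one (H : Subgroup G) : cj 1 H = H := by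
  ext x; simp [mem_cj]

lemma cj_mono (g : G) {H K : Subgroup G} (h : H ≤ K) : cj g H ≤ cj g K := Subgroup.map_mono h

lemma cj_eq_iff {g : G} {H K : Subgroup G} : cj g H = K ↔ cj g⁻¹ K = H :=
  ⟨fun h => by rw [← h, cj_cj, inv_mul_cancel, cj_one], fun h => by rw [← h, cj_cj, mul_inv_cancel, cj_one]⟩

lemma card_cj (g : G) (H : Subgroup G) : Nat.card (cj g H) = Nat.card H :=
  Subgroup.card_map_of_injective (MulAut.conj g).injective

lemma mem_normalizer_iff_cj [Finite G] {g : G} {H : Subgroup G} :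
    g ∈ normalizer (H : Set G) ↔ cj g H = H := by
  rw [mem_normalizer_iff']
  constructor
  · intro h
    ext x
    rw [mem_cj]
    have := h (g⁻¹ * x)
    simpa [mul_assoc] using this
  · intro h n
    conv_rhs => rw [← h, mem_cj]
    simp [mul_assoc]

lemma mem_normalizer_of_cj_le [Finite G] {g : G} {H : Subgroup G} (h : cj g H ≤ H) :
    g ∈ normalizer (H : Set G) :=
  mem_normalizer_iff_cj.2 (Subgroup.eq_of_le_of_card_ge h (card_cj g H).ge)

/-- The hypotheses. -/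
structure Hyp (G : Type*) [Group G] where
  V : Subgroup G
  Q : Subgroup G
  comm : ∀ a ∈ V, ∀ b ∈ V, a * b = b * a
  sq : ∀ a ∈ V, a * a = 1
  V_le : V ≤ Q
  Q_le : Q ≤ normalizer (V : Set G)
  Q_normal : ∀ m ∈ normalizer (V : Set G), ∀ x ∈ Q, m * x * m⁻¹ ∈ Q
  Q_pgroup : IsPGroup 2 Q
  Q_max : ∀ R : Subgroup G, R ≤ normalizer (V : Set G) →
    (∀ m ∈ normalizer (V : Set G), ∀ x ∈ R, m * x * m⁻¹ ∈ R) → IsPGroup 2 R → R ≤ Q
  Q_self : ∀ m ∈ normalizer (V : Set G), (∀ x ∈ Q, m * x = x * m) → m ∈ Q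
  maxAb : ∀ A : Subgroup G, V ≤ A → A ≤ normalizer (V : Set G) → IsMulCommutative A →
    (∀ m ∈ normalizer (V : Set G), ∀ a ∈ A, m * a * m⁻¹ ∈ A) → A = V
  ti : ∀ x : G, ∀ v ∈ V, v ≠ 1 → x * v * x⁻¹ ∈ V → x ∈ normalizer (V : Set G)

namespace Hyp

variable (D : Hyp G)

/-- `M = N(V)` -/
def M : Subgroup G := normalizer (D.V : Set G)

/-- `P = C_Q(V)` -/
def P : Subgroup G := D.Q ⊓ centralizer (D.V : Set G)

lemma mem_P {x : G} : x ∈ D.P ↔ x ∈ D.Q ∧ ∀ v ∈ D.V, v * x = x * v := by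
  simp [P, mem_centralizer_iff]

lemma V_le_P : D.V ≤ D.P := fun _ hv => D.mem_P.2 ⟨D.V_le hv, fun w hw => D.comm w hw _ hv⟩

lemma P_le_Q : D.P ≤ D.Q := inf_le_left

lemma Q_le_M : D.Q ≤ D.M := D.Q_le

lemma V_le_M : D.V ≤ D.M := D.V_le.trans D.Q_le_M

lemma P_le_M : D.P ≤ D.M := D.P_le_Q.trans D.Q_le_M

lemma P_comm_V {p v : G} (hp : p ∈ D.P) (hv : v ∈ D.V) : v * p = p * v := (D.mem_P.1 hp).2 v hv

lemma inv_eq {v : G} (hv : v ∈ D.V) : v⁻¹ = v := inv_eq_of_mul_eq_one_right (D.sq v hv)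

lemma conj_mem_V {m v : G} (hm : m ∈ D.M) (hv : v ∈ D.V) : m * v * m⁻¹ ∈ D.V :=
  (mem_normalizer_iff.1 hm v).1 hv

lemma P_normal {m p : G} (hm : m ∈ D.M) (hp : p ∈ D.P) : m * p * m⁻¹ ∈ D.P := by
  refine D.mem_P.2 ⟨D.Q_normal m hm p (D.P_le_Q hp), fun v hv => ?_⟩
  have hv' : m⁻¹ * v * m ∈ D.V := by simpa using D.conj_mem_V (inv_mem hm) hv
  have := congrArg (fun y => m * y * m⁻¹) (D.P_comm_V hp hv')
  simpa [mul_assoc] using this

lemma P_pgroup : IsPGroup 2 D.P := D.Q_pgroup.to_le D.P_le_Q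

variable [Finite G]

/-- `Z(P) = V` -/
lemma center_P {z : G} (hz : z ∈ D.P) (hc : ∀ p ∈ D.P, z * p = p * z) : z ∈ D.V := by
  have h : D.P ⊓ centralizer (D.P : Set G) = D.V := by
    refine D.maxAb _ (fun v hv => ⟨D.V_le_P hv, mem_centralizer_iff.2 fun p hp =>
      (D.P_comm_V hp hv).symm⟩) (inf_le_left.trans D.P_le_M) ?_ ?_
    · refine ⟨⟨fun a b => Subtype.ext ?_⟩⟩
      exact mem_centralizer_iff.1 b.2.2 a a.2.1
    · rintro m hm a ⟨ha, ha'⟩
      refine ⟨D.P_normal hm ha, mem_centralizer_iff.2 fun p hp => ?_⟩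
      have hp' : m⁻¹ * p * m ∈ D.P := by simpa using D.P_normal (inv_mem hm) hp
      have := congrArg (fun y => m * y * m⁻¹) (mem_centralizer_iff.1 ha' _ hp')
      simpa [mul_assoc] using this
  rw [← h]
  exact ⟨hz, mem_centralizer_iff.2 fun p hp => (hc p hp).symm⟩

/-- elements of `P` centralizing all "almost central" elements lie in `V` -/
lemma mem_V_of_centralizes_core {k : G} (hk : k ∈ D.P)
    (hc : ∀ c ∈ D.P, c * c ∈ D.V → (∀ p ∈ D.P, ⁅c, p⁆ ∈ D.V) → k * c = c * k) : k ∈ D.V := by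
  classical
  let C : Set G := {c | c ∈ D.P ∧ c * c ∈ D.V ∧ ∀ p ∈ D.P, ⁅c, p⁆ ∈ D.V}
  have hCinv : ∀ m ∈ D.M, ∀ c ∈ C, m * c * m⁻¹ ∈ C := by
    rintro m hm c ⟨h1, h2, h3⟩
    refine ⟨D.P_normal hm h1, ?_, fun p hp => ?_⟩
    · have := D.conj_mem_V hm h2
      simpa [mul_assoc] using this
    · have hp' : m⁻¹ * p * m ∈ D.P := by simpa using D.P_normal (inv_mem hm) hp
      have := D.conj_mem_V hm (h3 _ hp')
      simpa [commutatorElement_def, mul_assoc] using this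
  let K : Subgroup G := D.P ⊓ centralizer C
  have hKinv : ∀ m ∈ D.M, ∀ a ∈ K, m * a * m⁻¹ ∈ K := by
    rintro m hm a ⟨ha, ha'⟩
    refine ⟨D.P_normal hm ha, mem_centralizer_iff.2 fun c hcC => ?_⟩
    have hc' : m⁻¹ * c * m ∈ C := by simpa using hCinv _ (inv_mem hm) c hcC
    have := congrArg (fun y => m * y * m⁻¹) (mem_centralizer_iff.1 ha' _ hc')
    simpa [mul_assoc] using this
  have hkK : k ∈ K := ⟨hk, mem_centralizer_iff.2 fun c hcC => (hc c hcC.1 hcC.2.1 hcC.2.2).symm⟩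
  suffices hKV : K ≤ D.V from hKV hkK
  by_contra hKV
  obtain ⟨a, haK, haV⟩ := SetLike.not_le_iff_exists.1 hKV
  let V' : Subgroup D.P := D.V.subgroupOf D.P
  let K' : Subgroup D.P := K.subgroupOf D.P
  haveI : V'.Normal := ⟨fun v hv p => D.conj_mem_V (D.P_le_M p.2) hv⟩
  haveI : K'.Normal := ⟨fun v hv p => hKinv p (D.P_le_M p.2) v hv⟩
  haveI : Fact (Nat.Prime 2) := ⟨Nat.prime_two⟩
  haveI : (K'.map (QuotientGroup.mk' V')).Normal :=
    Subgroup.Normal.map inferInstance _ (QuotientGroup.mk'_surjective V')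
  obtain ⟨w, hw, hwc, hw1⟩ := Cfsg.Agent.Lib.Critical.exists_center_mem
    (D.P_pgroup.to_quotient V') (N := K'.map (QuotientGroup.mk' V')) (by
      intro h0
      apply haV
      have h1 : QuotientGroup.mk' V' ⟨a, haK.1⟩ ∈ K'.map (QuotientGroup.mk' V') :=
        Subgroup.mem_map_of_mem _ (show (⟨a, haK.1⟩ : D.P) ∈ K' from haK)
      rw [h0, Subgroup.mem_bot, QuotientGroup.mk'_apply, QuotientGroup.eq_one_iff] at h1
      exact h1)
  obtain ⟨w, hwK, rfl⟩ := hw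
  obtain ⟨n, hn⟩ := D.P_pgroup w
  have hex : ∃ n, ((w : G) ^ 2 ^ n) ∈ D.V := ⟨n, by
    rw [show (w : G) ^ 2 ^ n = ((w ^ 2 ^ n : D.P) : G) by simp, hn]; exact one_mem _⟩
  obtain ⟨j, hj⟩ : ∃ j, Nat.find hex = j + 1 := by
    refine ⟨Nat.find hex - 1, ?_⟩
    have : Nat.find hex ≠ 0 := by
      intro h0
      have := Nat.find_spec hex
      rw [h0, pow_zero, pow_one] at this
      exact hw1 ((QuotientGroup.eq_one_iff w).2 this)
    omega
  set c : D.P := w ^ 2 ^ j with hc_def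
  have hcV : (c : G) ∉ D.V := by
    rw [hc_def, Subgroup.coe_pow]
    exact Nat.find_min hex (by omega)
  have hcC : (c : G) ∈ C := by
    refine ⟨c.2, ?_, fun p hp => ?_⟩
    · have := Nat.find_spec hex
      rw [hj, pow_succ, pow_mul] at this
      rw [hc_def, Subgroup.coe_pow, ← pow_two]
      exact this
    · have hcen : QuotientGroup.mk' V' c ∈ center (D.P ⧸ V') := by
        rw [hc_def, map_pow]; exact pow_mem hwc _
      have h1 : QuotientGroup.mk' V' ⁅c, ⟨p, hp⟩⁆ = 1 := by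
        rw [map_commutatorElement, commutatorElement_eq_one_iff_mul_comm]
        exact (Subgroup.mem_center_iff.1 hcen _).symm
      exact (QuotientGroup.eq_one_iff (N := V') ⁅c, (⟨p, hp⟩ : D.P)⁆).1 h1
  have hcK : (c : G) ∈ K := by
    have : c ∈ K' := by rw [hc_def]; exact pow_mem hwK _
    exact this
  -- an abelian normal subgroup above `V` containing `c`
  let A : Subgroup G := closure ((D.V : Set G) ∪ ((K : Set G) ∩ C))
  have hgen : ∀ x ∈ (D.V : Set G) ∪ ((K : Set G) ∩ C), x ∈ D.P := by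
    rintro x (hx | ⟨hx, -⟩)
    · exact D.V_le_P hx
    · exact hx.1
  have hA : A = D.V := by
    refine D.maxAb A (fun v hv => subset_closure (Or.inl hv)) ((closure_le _).2 fun x hx => D.P_le_M (hgen x hx)) ?_ ?_
    · refine Subgroup.isMulCommutative_closure ?_
      rintro x (hx | hx) y (hy | hy)
      · exact D.comm x hx y hy
      · exact D.P_comm_V hy.2.1 hx
      · exact (D.P_comm_V hx.2.1 hy).symm
      · exact (mem_centralizer_iff.1 hx.1.2 y hy.2).symm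
    · intro m hm x hx
      have : x ∈ A.comap (MulAut.conj m).toMonoidHom := by
        refine (closure_le _).2 ?_ hx
        rintro y (hy | hy)
        · exact subset_closure (Or.inl (D.conj_mem_V hm hy))
        · exact subset_closure (Or.inr ⟨hKinv m hm y hy.1, hCinv m hm y hy.2⟩)
      exact this
  exact hcV (hA ▸ subset_closure (Or.inr ⟨hcK, hcC⟩))

omit [Finite G] in
lemma conj_eq_comm_mul (p q : G) : p * q * p⁻¹ = ⁅p, q⁆ * q := by
  rw [commutatorElement_def]; group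

omit [Finite G] in
lemma comm_central_mul {v w p q : G} (hvw : Commute v w) (hvq : Commute v q) (hwp : Commute w p)
    (hvp : Commute v p) (hwq : Commute w q) :
    ⁅v * p, w * q⁆ = ⁅p, q⁆ := by
  have h1 : v * p * (w * q) = v * w * (p * q) := hwp.symm.mul_mul_mul_comm v q
  have h2 : w * q * (v * p) = v * w * (q * p) := by
    rw [hvq.symm.mul_mul_mul_comm w p, hvw.eq]
  have h3 : ∀ a b : G, ⁅a, b⁆ = a * b * (b * a)⁻¹ := fun a b => by rw [commutatorElement_def]; group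
  have h5 : ∀ a b c : G, Commute a (b * c⁻¹) → a * b * (a * c)⁻¹ = b * c⁻¹ := by
    intro a b c h
    rw [mul_inv_rev, ← mul_assoc, mul_assoc a b, h.eq, mul_inv_cancel_right]
  rw [h3, h3, h1, h2]
  exact h5 _ _ _ ((((hvp.mul_left hwp).mul_right (hvq.mul_left hwq))).mul_right
    ((((hvq.mul_left hwq).mul_right (hvp.mul_left hwp))).inv_right))

lemma P_commute {p v : G} (hp : p ∈ D.P) (hv : v ∈ D.V) : Commute v p := D.P_comm_V hp hv

/-- squares of `P` lie in `V` -/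
lemma sq_mem {p : G} (hp : p ∈ D.P) : p * p ∈ D.V := by
  refine D.mem_V_of_centralizes_core (mul_mem hp hp) fun c hc _ hcP => ?_
  have hv := hcP p hp
  have h2 : c * (p * p) * c⁻¹ = p * p := by
    calc c * (p * p) * c⁻¹ = (c * p * c⁻¹) * (c * p * c⁻¹) := by group
      _ = (⁅c, p⁆ * p) * (⁅c, p⁆ * p) := by rw [conj_eq_comm_mul]
      _ = ⁅c, p⁆ * ⁅c, p⁆ * (p * p) := (D.P_commute hp hv).symm.mul_mul_mul_comm _ _
      _ = p * p := by rw [D.sq _ hv, one_mul]
  exact (mul_inv_eq_iff_eq_mul.1 h2).symm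

/-- commutators of `P` lie in `V` -/
lemma comm_mem {p q : G} (hp : p ∈ D.P) (hq : q ∈ D.P) : ⁅p, q⁆ ∈ D.V := by
  refine D.mem_V_of_centralizes_core
    (by rw [commutatorElement_def]; exact mul_mem (mul_mem (mul_mem hp hq) (inv_mem hp)) (inv_mem hq))
    fun c hc _ hcP => ?_
  have hv := hcP p hp
  have hw := hcP q hq
  have h2 : c * ⁅p, q⁆ * c⁻¹ = ⁅p, q⁆ := by
    calc c * ⁅p, q⁆ * c⁻¹ = ⁅c * p * c⁻¹, c * q * c⁻¹⁆ := by simp only [commutatorElement_def]; group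
      _ = ⁅⁅c, p⁆ * p, ⁅c, q⁆ * q⁆ := by rw [conj_eq_comm_mul, conj_eq_comm_mul]
      _ = ⁅p, q⁆ := comm_central_mul (D.comm _ hv _ hw) (D.P_commute hq hv) (D.P_commute hp hw)
        (D.P_commute hp hv) (D.P_commute hq hw)
  exact (mul_inv_eq_iff_eq_mul.1 h2).symm

lemma P_commute_of_eq {p q : G} (h : ⁅p, q⁆ = 1) : Commute p q :=
  commutatorElement_eq_one_iff_mul_comm.1 h

/-- an element centralizing `P/V` and `V` lies in `P` -/
lemma mem_P_of_stabilizes {m : G} (hm : m ∈ D.M) (hV : ∀ v ∈ D.V, v * m = m * v)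
    (hP : ∀ p ∈ D.P, ⁅m, p⁆ ∈ D.V) : m ∈ D.P := by
  let K : Subgroup G :=
    { carrier := {x | x ∈ D.M ∧ (∀ v ∈ D.V, v * x = x * v) ∧ ∀ p ∈ D.P, ⁅x, p⁆ ∈ D.V}
      one_mem' := ⟨one_mem _, fun v _ => by simp, fun p _ => by simp⟩
      mul_mem' := by
        rintro a b ⟨ha, haV, haP⟩ ⟨hb, hbV, hbP⟩
        refine ⟨mul_mem ha hb, fun v hv => by rw [← mul_assoc, haV v hv, mul_assoc, hbV v hv, mul_assoc],
          fun p hp => ?_⟩
        have : ⁅a * b, p⁆ = (a * ⁅b, p⁆ * a⁻¹) * ⁅a, p⁆ := by simp only [commutatorElement_def]; group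
        rw [this]
        exact mul_mem (D.conj_mem_V ha (hbP p hp)) (haP p hp)
      inv_mem' := by
        rintro a ⟨ha, haV, haP⟩
        refine ⟨inv_mem ha, fun v hv => ((show Commute v a from haV v hv).inv_right).eq, fun p hp => ?_⟩
        have : ⁅a⁻¹, p⁆ = (a⁻¹ * ⁅a, p⁆ * (a⁻¹)⁻¹)⁻¹ := by simp only [commutatorElement_def]; group
        rw [this]
        exact inv_mem (D.conj_mem_V (inv_mem ha) (haP p hp)) }
  have hnorm : ∀ m ∈ D.M, ∀ x ∈ K, m * x * m⁻¹ ∈ K := by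
    rintro m hm x ⟨hx, hxV, hxP⟩
    refine ⟨mul_mem (mul_mem hm hx) (inv_mem hm), fun v hv => ?_, fun p hp => ?_⟩
    · have hv' : m⁻¹ * v * m ∈ D.V := by simpa using D.conj_mem_V (inv_mem hm) hv
      have := congrArg (fun y => m * y * m⁻¹) (hxV _ hv')
      simpa [mul_assoc] using this
    · have hp' : m⁻¹ * p * m ∈ D.P := by simpa using D.P_normal (inv_mem hm) hp
      have := D.conj_mem_V hm (hxP _ hp')
      simpa [commutatorElement_def, mul_assoc] using this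
  have hsq : ∀ x ∈ K, ∀ p ∈ D.P, Commute (x * x) p := by
    rintro x ⟨hx, hxV, hxP⟩ p hp
    have hv := hxP p hp
    have h2 : x * x * p * (x * x)⁻¹ = p := by
      calc x * x * p * (x * x)⁻¹ = x * (x * p * x⁻¹) * x⁻¹ := by group
        _ = (x * ⁅x, p⁆ * x⁻¹) * (x * p * x⁻¹) := by rw [conj_eq_comm_mul x p]; group
        _ = ⁅x, p⁆ * (⁅x, p⁆ * p) := by
          rw [conj_eq_comm_mul x p, ← hxV _ hv, mul_inv_cancel_right]
        _ = p := by rw [← mul_assoc, D.sq _ hv, one_mul]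
    exact mul_inv_eq_iff_eq_mul.1 h2
  -- elements of `M` centralizing `P` square into `Q`
  have hC : ∀ x ∈ D.M, (∀ p ∈ D.P, Commute x p) → x * x ∈ D.Q := by
    intro x hx hxP
    refine D.Q_self _ (mul_mem hx hx) fun q hq => ?_
    set w := ⁅x, q⁆ with hwdef
    have hwQ : w ∈ D.Q := by
      rw [hwdef, commutatorElement_def]; exact mul_mem (D.Q_normal x hx q hq) (inv_mem hq)
    have hwP' : ∀ p ∈ D.P, Commute w p := by
      intro p hp
      have hqp : q⁻¹ * p * q ∈ D.P := by simpa using D.P_normal (inv_mem (D.Q_le_M hq)) hp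
      have h1 : Commute (q * x⁻¹ * q⁻¹) p := by
        have := congrArg (fun y => q * y * q⁻¹) ((hxP _ hqp).inv_left).eq
        show q * x⁻¹ * q⁻¹ * p = p * (q * x⁻¹ * q⁻¹)
        simpa [mul_assoc] using this
      have : w = x * (q * x⁻¹ * q⁻¹) := by rw [hwdef, commutatorElement_def]; group
      rw [this]
      exact (hxP p hp).mul_left h1
    have hwP : w ∈ D.P :=
      D.mem_P.2 ⟨hwQ, fun v hv => (hwP' v (D.V_le_P hv)).eq.symm⟩
    have hwV : w ∈ D.V := D.center_P hwP fun p hp => (hwP' p hp).eq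
    have h2 : x * x * q * (x * x)⁻¹ = q := by
      calc x * x * q * (x * x)⁻¹ = x * (x * q * x⁻¹) * x⁻¹ := by group
        _ = x * (w * q) * x⁻¹ := by rw [conj_eq_comm_mul x q]
        _ = (x * w * x⁻¹) * (x * q * x⁻¹) := by group
        _ = w * (w * q) := by
          rw [conj_eq_comm_mul x q, (hxP w hwP).eq, mul_inv_cancel_right]
        _ = q := by rw [← mul_assoc, D.sq _ hwV, one_mul]
    exact mul_inv_eq_iff_eq_mul.1 h2
  have hpg : IsPGroup 2 K := by
    rintro ⟨x, hx⟩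
    refine ⟨3, Subtype.ext ?_⟩
    have h4 : x * x * (x * x) ∈ D.Q := hC _ (mul_mem hx.1 hx.1) (hsq x hx)
    have hc4 : ∀ p ∈ D.P, Commute (x * x * (x * x)) p := fun p hp => (hsq x hx p hp).mul_left (hsq x hx p hp)
    have hP4 : x * x * (x * x) ∈ D.P :=
      D.mem_P.2 ⟨h4, fun v hv => (hc4 v (D.V_le_P hv)).eq.symm⟩
    have hV4 := D.center_P hP4 fun p hp => (hc4 p hp).eq
    have := D.sq _ hV4
    simp only [Subgroup.coe_pow, Subgroup.coe_one]
    rw [← this, show (2 : ℕ) ^ 3 = 8 from rfl]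
    simp only [pow_succ, pow_zero, one_mul, mul_assoc]
  exact D.mem_P.2 ⟨D.Q_max K (fun x hx => hx.1) hnorm hpg (show m ∈ K from ⟨hm, hV, hP⟩), hV⟩

end Hyp

end Cfsg.Agent.TISL2
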