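import Mathlib
import Cfsg.Agent.Lib.TISL2.Setup

/-!
Conjugates ("nodes") of `V` inside `M`, non-commuting pairs of them, and the spread they define on `V × X`.
-/

set_option autoImplicit false

namespace Cfsg.Agent.TISL2

open Subgroup
open scoped commutatorElement

variable {G : Type*} [Group G]

namespace Hyp

variable (D : Hyp G)

/-- a conjugate of `V` -/
def IsNode (X : Subgroup G) : Prop := ∃ g : G, cj g D.V = X

lemma isNode_V : D.IsNode D.V := ⟨1, cj_one _⟩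

lemma IsNode.cj {D : Hyp G} {X : Subgroup G} (h : D.IsNode X) (g : G) : D.IsNode (TISL2.cj g X) := by
  obtain ⟨k, rfl⟩ := h
  exact ⟨g * k, (cj_cj _ _ _).symm⟩

/-- a node other than `V` inside `P` -/
structure GoodNode (X : Subgroup G) : Prop where
  isNode : D.IsNode X
  ne : X ≠ D.V
  le : X ≤ D.P

variable {D}

lemma IsNode.sq {X : Subgroup G} (h : D.IsNode X) {u : G} (hu : u ∈ X) : u * u = 1 := by
  obtain ⟨g, rfl⟩ := h
  have h1 := D.sq _ (mem_cj.1 hu)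
  have h2 : g⁻¹ * u * g * (g⁻¹ * u * g) = g⁻¹ * (u * u) * g := by group
  rw [h2] at h1
  have h3 := congrArg (fun y => g * y * g⁻¹) h1
  simpa [mul_assoc] using h3

lemma IsNode.inv_eq {X : Subgroup G} (h : D.IsNode X) {u : G} (hu : u ∈ X) : u⁻¹ = u :=
  inv_eq_of_mul_eq_one_right (h.sq hu)

lemma IsNode.comm {X : Subgroup G} (h : D.IsNode X) {a b : G} (ha : a ∈ X) (hb : b ∈ X) :
    Commute a b := by
  obtain ⟨g, rfl⟩ := h
  obtain ⟨a', ha', rfl⟩ := ha
  obtain ⟨b', hb', rfl⟩ := hb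
  exact Commute.map (show Commute a' b' from D.comm _ ha' _ hb') _

lemma IsNode.card_eq {X : Subgroup G} (h : D.IsNode X) : Nat.card X = Nat.card D.V := by
  obtain ⟨g, rfl⟩ := h
  exact card_cj _ _

variable [Finite G]

/-- TI: nodes sharing a nonidentity element are equal -/
lemma IsNode.eq_of_mem {X Y : Subgroup G} (hX : D.IsNode X) (hY : D.IsNode Y) {u : G} (hu1 : u ≠ 1)
    (huX : u ∈ X) (huY : u ∈ Y) : X = Y := by
  obtain ⟨g, rfl⟩ := hX
  obtain ⟨k, rfl⟩ := hY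
  have hv := mem_cj.1 huX
  have hv1 : g⁻¹ * u * g ≠ 1 := fun h => hu1 (by
    have := congrArg (fun y => g * y * g⁻¹) h
    simpa [mul_assoc] using this)
  have hx := D.ti (k⁻¹ * g) _ hv hv1 (by
    have := mem_cj.1 huY
    simpa [mul_assoc] using this)
  have h2 := congrArg (TISL2.cj k) (mem_normalizer_iff_cj.1 hx)
  rwa [cj_cj, mul_inv_cancel_left] at h2

lemma IsNode.mem_normalizer {X : Subgroup G} (h : D.IsNode X) {a u : G} (hu : u ∈ X) (hu1 : u ≠ 1)
    (ha : a * u * a⁻¹ ∈ X) : a ∈ normalizer (X : Set G) :=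
  mem_normalizer_iff_cj.2 ((h.cj a).eq_of_mem h
    (fun h0 => hu1 (by have := congrArg (fun y => a⁻¹ * y * a) h0; simpa [mul_assoc] using this))
    (conj_mem_cj hu) ha)

lemma IsNode.eq_one_of_mem_V {X : Subgroup G} (h : D.IsNode X) (hne : X ≠ D.V) {u : G} (hu : u ∈ X)
    (huV : u ∈ D.V) : u = 1 := by
  by_contra h1
  exact hne (h.eq_of_mem D.isNode_V h1 hu huV)

lemma exists_ne_one_of_card {A : Subgroup G} (h : 1 < Nat.card A) : ∃ a ∈ A, a ≠ (1 : G) := by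
  by_contra hc
  push Not at hc
  have : A = ⊥ := (Subgroup.eq_bot_iff_forall A).2 hc
  rw [this, Subgroup.card_bot] at h
  omega

/-- a node in `M` other than `V` centralizes `V` -/
lemma IsNode.comm_V {X : Subgroup G} (h : D.IsNode X) (hne : X ≠ D.V) (hM : X ≤ D.M) {v u : G}
    (hv : v ∈ D.V) (hu : u ∈ X) : Commute u v := by
  rcases eq_or_ne v 1 with rfl | hv1
  · exact Commute.one_right _
  obtain ⟨u0, hu0, hu01, hu0v⟩ : ∃ u0 ∈ X, u0 ≠ 1 ∧ Commute u0 v := by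
    by_contra hc
    push Not at hc
    haveI : Fintype X := Fintype.ofFinite _
    haveI : Fintype D.V := Fintype.ofFinite _
    classical
    let f : X → {w : D.V // w ≠ 1} := fun x => ⟨⟨x.1 * v * x.1⁻¹, D.conj_mem_V (hM x.2) hv⟩, fun h0 => by
      have h1 : x.1 * v * x.1⁻¹ = 1 := congrArg Subtype.val h0
      exact hv1 (by simpa [mul_assoc] using congrArg (fun y => x.1⁻¹ * y * x.1) h1)⟩
    have hinj : Function.Injective f := by
      intro x y hxy
      have h1 : x.1 * v * x.1⁻¹ = y.1 * v * y.1⁻¹ := congrArg (fun w => w.1.1) hxy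
      by_contra hne'
      refine hc (y.1⁻¹ * x.1) (mul_mem (inv_mem y.2) x.2) ?_ ?_
      · intro h2
        exact hne' (Subtype.ext (inv_mul_eq_one.1 h2).symm)
      · have h2 := congrArg (fun w => y.1⁻¹ * w * x.1) h1
        show y.1⁻¹ * x.1 * v = v * (y.1⁻¹ * x.1)
        simpa [mul_assoc] using h2
    have h1 := Fintype.card_le_of_injective f hinj
    rw [Fintype.card_subtype_compl, Fintype.card_subtype_eq, ← Nat.card_eq_fintype_card,
      ← Nat.card_eq_fintype_card, h.card_eq] at h1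
    have := (Nat.card_pos : 0 < Nat.card D.V)
    omega
  have hvN : v ∈ normalizer (X : Set G) :=
    h.mem_normalizer hu0 hu01 (by rw [← hu0v.eq, mul_inv_cancel_right]; exact hu0)
  have hX' : u * (v * u⁻¹ * v⁻¹) ∈ X := mul_mem hu ((mem_normalizer_iff.1 hvN _).1 (inv_mem hu))
  have hV' : u * v * u⁻¹ * v⁻¹ ∈ D.V := mul_mem (D.conj_mem_V (hM hu) hv) (inv_mem hv)
  have h1 := h.eq_one_of_mem_V hne (u := u * v * u⁻¹ * v⁻¹) (by simpa [mul_assoc] using hX') hV'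
  exact commutatorElement_eq_one_iff_mul_comm.1 (by rw [commutatorElement_def]; exact h1)

lemma IsNode.good_of_le_Q {X : Subgroup G} (h : D.IsNode X) (hne : X ≠ D.V) (hQ : X ≤ D.Q) :
    D.GoodNode X :=
  ⟨h, hne, fun _ hu => D.mem_P.2 ⟨hQ hu, fun _ hv =>
    ((h.comm_V hne (hQ.trans D.Q_le_M) hv hu).eq).symm⟩⟩

lemma GoodNode.cj_of_mem_M {X : Subgroup G} (h : D.GoodNode X) {m : G} (hm : m ∈ D.M) :
    D.GoodNode (TISL2.cj m X) := by
  refine ⟨h.isNode.cj m, fun h0 => h.ne ?_, ?_⟩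
  · have hmV : TISL2.cj m D.V = D.V := mem_normalizer_iff_cj.1 hm
    rw [← cj_eq_iff.1 hmV] at h0
    have := congrArg (TISL2.cj m⁻¹) h0
    rw [cj_cj, cj_cj, inv_mul_cancel, cj_one] at this
    rw [this, ← cj_cj, cj_eq_iff.1 hmV, cj_eq_iff.1 hmV]
  · intro x hx
    have := D.P_normal hm (h.le (mem_cj.1 hx))
    simpa [mul_assoc] using this

/-- some `M`-conjugate of a good node does not commute with it -/
lemma GoodNode.exists_noncomm {X : Subgroup G} (h : D.GoodNode X) :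
    ∃ Y, D.GoodNode Y ∧ ∃ x ∈ X, ∃ y ∈ Y, ¬ Commute x y := by
  by_contra hc
  push Not at hc
  let S : Set G := {x | x ∈ D.V ∨ ∃ m ∈ D.M, x ∈ TISL2.cj m X}
  have hSP : ∀ x ∈ S, x ∈ D.P := by
    rintro x (hx | ⟨m, hm, hx⟩)
    · exact D.V_le_P hx
    · exact (h.cj_of_mem_M hm).le hx
  have hA : closure S = D.V := by
    refine D.maxAb _ (fun v hv => subset_closure (Or.inl hv))
      ((closure_le _).2 fun x hx => D.P_le_M (hSP x hx)) ?_ ?_
    · refine Subgroup.isMulCommutative_closure ?_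
      rintro x (hx | ⟨m, hm, hx⟩) y (hy | ⟨n, hn, hy⟩)
      · exact D.comm x hx y hy
      · exact D.P_comm_V ((h.cj_of_mem_M hn).le hy) hx
      · exact (D.P_comm_V ((h.cj_of_mem_M hm).le hx) hy).symm
      · have h1 : m⁻¹ * y * m ∈ TISL2.cj (m⁻¹ * n) X := by
          rw [mem_cj] at hy ⊢; simpa [mul_assoc] using hy
        have h2 := hc _ (h.cj_of_mem_M (mul_mem (inv_mem hm) hn)) _ (mem_cj.1 hx) _ h1
        have h3 := congrArg (fun w => m * w * m⁻¹) h2.eq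
        simpa [mul_assoc] using h3
    · intro m hm x hx
      have : x ∈ (closure S).comap (MulAut.conj m).toMonoidHom := by
        refine (closure_le _).2 ?_ hx
        rintro y (hy | ⟨n, hn, hy⟩)
        · exact subset_closure (Or.inl (D.conj_mem_V hm hy))
        · refine subset_closure (Or.inr ⟨m * n, mul_mem hm hn, ?_⟩)
          rw [← cj_cj]; exact conj_mem_cj hy
      exact this
  refine h.ne (Subgroup.eq_of_le_of_card_ge (fun x hx => hA ▸ subset_closure (Or.inr ⟨1, one_mem _, ?_⟩))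
    h.isNode.card_eq.ge)
  rw [cj_one]; exact hx

variable (D)

/-- a pair of good nodes with only trivial commuting -/
structure Pair (X Y : Subgroup G) : Prop where
  left : D.GoodNode X
  right : D.GoodNode Y
  faithful : ∀ x ∈ X, x ≠ (1 : G) → ∀ y ∈ Y, Commute x y → y = 1

variable {D}

lemma GoodNode.exists_pair {X : Subgroup G} (h : D.GoodNode X) : ∃ Y, D.Pair X Y := by
  obtain ⟨Y, hY, x0, hx0, y0, hy0, hnc⟩ := h.exists_noncomm
  refine ⟨Y, h, hY, fun x hx hx1 y hy hc => ?_⟩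
  by_contra hy1
  apply hnc
  -- `y` normalizes `X` and centralizes it, so every element of `X` normalizes and centralizes `Y`
  have key : ∀ {A B : Subgroup G}, D.GoodNode A → D.GoodNode B → ∀ {a b : G}, a ∈ A → a ≠ 1 → b ∈ B →
      Commute a b → ∀ a' ∈ A, Commute a' b := by
    intro A B hA hB a b ha ha1 hb hab a' ha'
    have hbN : b ∈ normalizer (A : Set G) :=
      hA.isNode.mem_normalizer ha ha1 (by rw [← hab.eq, mul_inv_cancel_right]; exact ha)
    have h1 := hA.isNode.eq_one_of_mem_V hA.ne (u := ⁅a', b⁆)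
      (by rw [commutatorElement_def, mul_assoc, mul_assoc, ← mul_assoc b]
          exact mul_mem ha' ((mem_normalizer_iff.1 hbN _).1 (inv_mem ha')))
      (D.comm_mem (hA.le ha') (hB.le hb))
    exact commutatorElement_eq_one_iff_mul_comm.1 h1
  have h1 := key h hY hx hx1 hy hc x0 hx0
  exact (key hY h hy hy1 hx0 h1.symm y0 hy0).symm

lemma Pair.symm {X Y : Subgroup G} (h : D.Pair X Y) : D.Pair Y X :=
  ⟨h.right, h.left, fun y hy hy1 x hx hc => by
    by_contra hx1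
    exact hy1 (h.faithful x hx hx1 y hy hc.symm)⟩

lemma comm_mul_left {a b y : G} (ha : a ∈ D.P) (hb : b ∈ D.P) (hy : y ∈ D.P) :
    ⁅a * b, y⁆ = ⁅a, y⁆ * ⁅b, y⁆ := by
  have hv := D.comm_mem hb hy
  have : ⁅a * b, y⁆ = a * ⁅b, y⁆ * a⁻¹ * ⁅a, y⁆ := by simp only [commutatorElement_def]; group
  rw [this, ← (D.P_commute ha hv).eq, mul_inv_cancel_right, D.comm _ hv _ (D.comm_mem ha hy)]

lemma comm_swap {a b : G} (ha : a ∈ D.P) (hb : b ∈ D.P) : ⁅b, a⁆ = ⁅a, b⁆ := by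
  rw [← commutatorElement_inv, D.inv_eq (D.comm_mem ha hb)]

lemma comm_mul_right {a b y : G} (ha : a ∈ D.P) (hb : b ∈ D.P) (hy : y ∈ D.P) :
    ⁅y, a * b⁆ = ⁅y, a⁆ * ⁅y, b⁆ := by
  rw [comm_swap (mul_mem ha hb) hy, comm_mul_left ha hb hy, comm_swap hy ha, comm_swap hy hb]

lemma comm_cancel_left {a b y : G} (ha : a ∈ D.P) (hb : b ∈ D.P) (hy : y ∈ D.P)
    (hab : ⁅a, y⁆ = ⁅b, y⁆) : Commute (b⁻¹ * a) y := by
  apply commutatorElement_eq_one_iff_mul_comm.1
  have h1 : ⁅b, y⁆ * ⁅b⁻¹ * a, y⁆ = ⁅b, y⁆ := by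
    rw [← comm_mul_left hb (mul_mem (inv_mem hb) ha) hy, mul_inv_cancel_left, hab]
  exact mul_left_cancel (h1.trans (mul_one _).symm)

namespace Pair

variable {X Y : Subgroup G} (h : D.Pair X Y)
include h

lemma mem_P_left {x : G} (hx : x ∈ X) : x ∈ D.P := h.left.le hx
lemma mem_P_right {y : G} (hy : y ∈ Y) : y ∈ D.P := h.right.le hy

lemma comm_mem {x y : G} (hx : x ∈ X) (hy : y ∈ Y) : ⁅x, y⁆ ∈ D.V :=
  D.comm_mem (h.mem_P_left hx) (h.mem_P_right hy)

lemma eq_of_comm_eq {x : G} (hx : x ∈ X) (hx1 : x ≠ 1) {y y' : G} (hy : y ∈ Y) (hy' : y' ∈ Y)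
    (he : ⁅x, y⁆ = ⁅x, y'⁆) : y = y' := by
  have h1 := comm_cancel_left (h.mem_P_right hy) (h.mem_P_right hy') (h.mem_P_left hx)
    (by rw [comm_swap (h.mem_P_left hx) (h.mem_P_right hy), he, comm_swap (h.mem_P_left hx) (h.mem_P_right hy')])
  have := h.faithful x hx hx1 _ (mul_mem (inv_mem hy') hy) h1.symm
  exact (inv_mul_eq_one.1 this).symm

lemma exists_comm_eq {x : G} (hx : x ∈ X) (hx1 : x ≠ 1) {v : G} (hv : v ∈ D.V) :
    ∃ y ∈ Y, ⁅x, y⁆ = v := by
  have hb : Function.Bijective (fun y : Y => (⟨⁅x, (y : G)⁆, h.comm_mem hx y.2⟩ : D.V)) :=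
    (Nat.bijective_iff_injective_and_card _).2
      ⟨fun a b he => Subtype.ext (h.eq_of_comm_eq hx hx1 a.2 b.2 (congrArg Subtype.val he)),
        h.right.isNode.card_eq⟩
  obtain ⟨y, hy⟩ := hb.2 ⟨v, hv⟩
  exact ⟨y, y.2, congrArg Subtype.val hy⟩

/-- `P = C_P(X) Y` -/
lemma decomp {p : G} (hp : p ∈ D.P) :
    ∃ b y, b ∈ D.P ∧ (∀ x ∈ X, Commute b x) ∧ y ∈ Y ∧ p = b * y := by
  obtain ⟨x0, hx0, hx01⟩ : ∃ x0 ∈ X, x0 ≠ (1 : G) := by
    refine exists_ne_one_of_card ?_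
    rw [h.left.isNode.card_eq]
    by_contra hc
    exact h.left.ne (Subgroup.eq_of_le_of_card_ge (fun x hx => by
      have : Nat.card X ≤ 1 := by rw [h.left.isNode.card_eq]; omega
      rw [(Subgroup.card_le_one_iff_eq_bot X).1 this] at hx
      rw [Subgroup.mem_bot.1 hx]; exact one_mem _) h.left.isNode.card_eq.ge)
  obtain ⟨y, hy, hye⟩ := h.exists_comm_eq hx0 hx01 (D.comm_mem (h.mem_P_left hx0) hp)
  have hbP : p * y⁻¹ ∈ D.P := mul_mem hp (inv_mem (h.mem_P_right hy))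
  refine ⟨p * y⁻¹, y, hbP, fun x hx => ?_, hy, by group⟩
  have h0 : ⁅p * y⁻¹, x0⁆ = 1 := by
    rw [comm_mul_left hp (inv_mem (h.mem_P_right hy)) (h.mem_P_left hx0), h.right.isNode.inv_eq hy,
      comm_swap (h.mem_P_left hx0) hp, comm_swap (h.mem_P_left hx0) (h.mem_P_right hy), hye,
      D.sq _ (D.comm_mem (h.mem_P_left hx0) hp)]
  have hc0 : Commute (p * y⁻¹) x0 := commutatorElement_eq_one_iff_mul_comm.1 h0
  have hN : p * y⁻¹ ∈ normalizer (X : Set G) :=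
    h.left.isNode.mem_normalizer hx0 hx01 (by rw [hc0.eq, mul_inv_cancel_right]; exact hx0)
  have h1 := h.left.isNode.eq_one_of_mem_V h.left.ne (u := ⁅p * y⁻¹, x⁆)
    (by rw [commutatorElement_def]
        exact mul_mem ((mem_normalizer_iff.1 hN _).1 hx) (inv_mem hx))
    (D.comm_mem hbP (h.mem_P_left hx))
  exact commutatorElement_eq_one_iff_mul_comm.1 h1

end Pair

/-- the group `V × X` of a good node -/
def GoodNode.W {X : Subgroup G} (h : D.GoodNode X) : Subgroup G where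
  carrier := {w | ∃ v ∈ D.V, ∃ x ∈ X, w = v * x}
  one_mem' := ⟨1, one_mem _, 1, one_mem _, by simp⟩
  mul_mem' := by
    rintro _ _ ⟨v, hv, x, hx, rfl⟩ ⟨v', hv', x', hx', rfl⟩
    exact ⟨v * v', mul_mem hv hv', x * x', mul_mem hx hx',
      (D.P_commute (h.le hx) hv').symm.mul_mul_mul_comm v x'⟩
  inv_mem' := by
    rintro _ ⟨v, hv, x, hx, rfl⟩
    exact ⟨v⁻¹, inv_mem hv, x⁻¹, inv_mem hx, by
      rw [mul_inv_rev, (D.P_commute (inv_mem (h.le hx)) (inv_mem hv)).eq]⟩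

lemma GoodNode.W_eq {X : Subgroup G} (h : D.GoodNode X) : h.W = D.V ⊔ X := by
  refine le_antisymm ?_ (sup_le (fun v hv => ⟨v, hv, 1, one_mem _, by simp⟩)
    fun x hx => ⟨1, one_mem _, x, hx, by simp⟩)
  rintro _ ⟨v, hv, x, hx, rfl⟩
  exact mul_mem (Subgroup.mem_sup_left hv) (Subgroup.mem_sup_right hx)

lemma GoodNode.W_le_P {X : Subgroup G} (h : D.GoodNode X) : D.V ⊔ X ≤ D.P := sup_le D.V_le_P h.le

lemma GoodNode.mem_W {X : Subgroup G} (h : D.GoodNode X) {w : G} :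
    w ∈ D.V ⊔ X ↔ ∃ v ∈ D.V, ∃ x ∈ X, w = v * x := by
  rw [← h.W_eq]; rfl

lemma GoodNode.W_unique {X : Subgroup G} (h : D.GoodNode X) {v v' x x' : G} (hv : v ∈ D.V)
    (hv' : v' ∈ D.V) (hx : x ∈ X) (hx' : x' ∈ X) (he : v * x = v' * x') : v = v' ∧ x = x' := by
  have h1 : v'⁻¹ * v = x' * x⁻¹ := by
    rw [inv_mul_eq_iff_eq_mul, ← mul_assoc, eq_mul_inv_iff_mul_eq, he]
  have h2 := h.isNode.eq_one_of_mem_V h.ne (u := x' * x⁻¹) (mul_mem hx' (inv_mem hx))
    (h1 ▸ mul_mem (inv_mem hv') hv)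
  refine ⟨(inv_mul_eq_one.1 (h1.trans h2)).symm, (mul_inv_eq_one.1 h2).symm⟩

namespace Pair

variable {X Y : Subgroup G} (h : D.Pair X Y)
include h

lemma conj_left {y x : G} (hy : y ∈ Y) (hx : x ∈ X) : y * x * y⁻¹ = ⁅x, y⁆ * x := by
  rw [conj_eq_comm_mul, comm_swap (h.mem_P_left hx) (h.mem_P_right hy)]

lemma cj_le_W {y : G} (hy : y ∈ Y) : cj y X ≤ D.V ⊔ X := by
  intro z hz
  have := h.conj_left hy (mem_cj.1 hz)
  have hz' : z = ⁅y⁻¹ * z * y, y⁆ * (y⁻¹ * z * y) := by rw [← this]; group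
  exact h.left.mem_W.2 ⟨_, h.comm_mem (mem_cj.1 hz) hy, _, mem_cj.1 hz, hz'⟩

lemma cj_ne_V {y : G} (hy : y ∈ Y) : cj y X ≠ D.V :=
  (h.left.cj_of_mem_M (D.P_le_M (h.mem_P_right hy))).ne

/-- every element of `W` outside `V` lies in some `y X y⁻¹` -/
lemma exists_cover {w : G} (hw : w ∈ D.V ⊔ X) (hwV : w ∉ D.V) : ∃ y ∈ Y, w ∈ cj y X := by
  obtain ⟨v, hv, x, hx, rfl⟩ := h.left.mem_W.1 hw
  have hx1 : x ≠ 1 := fun h0 => hwV (by rw [h0, mul_one]; exact hv)
  obtain ⟨y, hy, he⟩ := h.exists_comm_eq hx hx1 hv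
  exact ⟨y, hy, by rw [← he, ← h.conj_left hy hx]; exact conj_mem_cj hx⟩

/-- the nodes in `W` -/
lemma node_eq {Z : Subgroup G} (hZ : D.IsNode Z) (hZW : Z ≤ D.V ⊔ X) (hne : Z ≠ D.V) :
    ∃ y ∈ Y, Z = cj y X := by
  have hc : 1 < Nat.card Z := by
    rw [hZ.card_eq]
    by_contra hc
    refine hne (Subgroup.eq_of_le_of_card_ge (fun z hz => ?_) hZ.card_eq.ge)
    have : Nat.card Z ≤ 1 := by rw [hZ.card_eq]; omega
    rw [(Subgroup.card_le_one_iff_eq_bot Z).1 this] at hz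
    rw [Subgroup.mem_bot.1 hz]; exact one_mem _
  obtain ⟨z, hz, hz1⟩ := exists_ne_one_of_card hc
  obtain ⟨y, hy, hzy⟩ := h.exists_cover (hZW hz) (fun h0 => hz1 (hZ.eq_one_of_mem_V hne hz h0))
  exact ⟨y, hy, hZ.eq_of_mem (h.left.isNode.cj y) hz1 hz hzy⟩

/-- an element of `P` centralizing `C_P(X)` lies in `W` -/
lemma mem_W_of_centralizes {p : G} (hp : p ∈ D.P)
    (hc : ∀ b ∈ D.P, (∀ x ∈ X, Commute b x) → Commute p b) : p ∈ D.V ⊔ X := by
  have hpX : ∀ x ∈ X, Commute p x := fun x hx =>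
    hc x (h.mem_P_left hx) fun x' hx' => h.left.isNode.comm hx hx'
  obtain ⟨e, x, heP, heY, hx, rfl⟩ := h.symm.decomp hp
  refine h.left.mem_W.2 ⟨e, D.center_P heP fun q hq => ?_, x, hx, rfl⟩
  obtain ⟨b, y, hbP, hbX, hy, rfl⟩ := h.decomp hq
  have h1 : Commute e b := by
    have h2 := (hc b hbP hbX).mul_left ((hbX x hx).symm.inv_left)
    rwa [mul_inv_cancel_right] at h2
  exact (h1.mul_right (heY y hy)).eq

/-- an element of `M` centralizing `V`, `X` and `C_P(X)` lies in `W` -/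
lemma mem_W_of_centralizes' {z : G} (hz : z ∈ D.M) (hzV : ∀ v ∈ D.V, Commute z v)
    (hzB : ∀ b ∈ D.P, (∀ x ∈ X, Commute b x) → Commute z b) : z ∈ D.V ⊔ X := by
  have key : ∀ y ∈ Y, ⁅z, y⁆ ∈ D.V := by
    intro y hy
    have hyP := h.mem_P_right hy
    have hwP : ⁅z, y⁆ ∈ D.P := by
      rw [commutatorElement_def]; exact mul_mem (D.P_normal hz hyP) (inv_mem hyP)
    have hw := h.mem_W_of_centralizes hwP fun b hb hbX => by
      have hv := D.comm_mem hyP hb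
      have h1 : z * y * z⁻¹ * b * (z * y * z⁻¹)⁻¹ = ⁅y, b⁆ * b := by
        calc z * y * z⁻¹ * b * (z * y * z⁻¹)⁻¹ = z * (y * (z⁻¹ * b * z) * y⁻¹) * z⁻¹ := by group
          _ = z * (⁅y, b⁆ * b) * z⁻¹ := by
            rw [show z⁻¹ * b * z = b by rw [mul_assoc, ← (hzB b hb hbX).eq, inv_mul_cancel_left],
              conj_eq_comm_mul y b]
          _ = ⁅y, b⁆ * b := by rw [((hzV _ hv).mul_right (hzB b hb hbX)).eq, mul_inv_cancel_right]
      -- `⁅z, y⁆` commutes with `⁅y, b⁆ b` and with `⁅y, b⁆`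
      have h2 : Commute ⁅z, y⁆ (⁅y, b⁆ * b) := by
        have e1 : ⁅z, y⁆ * (⁅y, b⁆ * b) * ⁅z, y⁆⁻¹ = ⁅y, b⁆ * b := by
          calc ⁅z, y⁆ * (⁅y, b⁆ * b) * ⁅z, y⁆⁻¹
              = z * y * z⁻¹ * (y⁻¹ * (⁅y, b⁆ * b) * y) * (z * y * z⁻¹)⁻¹ := by
                simp only [commutatorElement_def]; group
            _ = z * y * z⁻¹ * b * (z * y * z⁻¹)⁻¹ := by
                rw [← conj_eq_comm_mul y b]; group
            _ = ⁅y, b⁆ * b := h1
        exact mul_inv_eq_iff_eq_mul.1 e1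
      have h3 : Commute ⁅z, y⁆ ⁅y, b⁆ := (D.P_commute hwP hv).symm
      have h4 := h3.inv_right.mul_right h2
      rwa [inv_mul_cancel_left] at h4
    obtain ⟨v, hv, x, hx, hvx⟩ := h.left.mem_W.1 hw
    -- `v x y = z y z⁻¹` is an involution
    have hzy : z * y * z⁻¹ = v * x * y := by rw [← hvx, commutatorElement_def]; group
    have h5 : v * x * y * (v * x * y) = 1 := by
      rw [← hzy]
      calc z * y * z⁻¹ * (z * y * z⁻¹) = z * (y * y) * z⁻¹ := by group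
        _ = 1 := by rw [h.right.isNode.sq hy]; group
    rw [mul_assoc v x y, (D.P_commute (mul_mem (h.mem_P_left hx) hyP) hv).symm.mul_mul_mul_comm,
      D.sq v hv, one_mul] at h5
    have hxy : Commute x y := by
      have := inv_eq_of_mul_eq_one_right h5
      rw [mul_inv_rev, h.left.isNode.inv_eq hx, h.right.isNode.inv_eq hy] at this
      exact this.symm
    rcases eq_or_ne x 1 with hx1 | hx1
    · rw [hvx, hx1, mul_one]; exact hv
    · rw [h.faithful x hx hx1 y hy hxy, commutatorElement_one_right]; exact one_mem _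
  have hzP : z ∈ D.P := D.mem_P_of_stabilizes hz (fun v hv => (hzV v hv).eq.symm) fun p hp => by
    obtain ⟨b, y, hb, hbX, hy, rfl⟩ := h.decomp hp
    have h1 : ⁅z, b * y⁆ = b * ⁅z, y⁆ * b⁻¹ := by
      simp only [commutatorElement_def]
      rw [← mul_assoc z b y, (hzB b hb hbX).eq]
      group
    rw [h1, ← (D.P_commute hb (key y hy)).eq, mul_inv_cancel_right]
    exact key y hy
  exact h.mem_W_of_centralizes hzP hzB

end Pair

end Hyp

end Cfsg.Agent.TISL2
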