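import Mathlib
import Cfsg.Agent.Lib.TISL2.Pair
import Cfsg.Agent.Lib.TISL2.Bilinear

/-!
The symmetry `V ≤ O₂(N(X))` for a node `X ≤ O₂(N(V))`, the lower unipotent group, and the field of a pair.
-/

set_option autoImplicit false

namespace Cfsg.Agent.TISL2

open Subgroup
open scoped commutatorElement

variable {G : Type*} [Group G]

namespace Hyp

variable {D : Hyp G}

lemma cj_Q_of_mem_M [Finite G] {m : G} (hm : m ∈ D.M) : cj m D.Q = D.Q :=
  mem_normalizer_iff_cj.1 (mem_normalizer_iff.2 fun x => ⟨fun hx => D.Q_normal m hm x hx, fun hx => by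
    have := D.Q_normal m⁻¹ (inv_mem hm) _ hx
    simpa [mul_assoc] using this⟩)

lemma mem_M_iff [Finite G] {m : G} : m ∈ D.M ↔ cj m D.V = D.V := mem_normalizer_iff_cj

variable [Finite G]

lemma IsNode.nontrivial {X : Subgroup G} (h : D.IsNode X) (hne : X ≠ D.V) : ∃ x ∈ X, x ≠ (1 : G) := by
  by_contra hc
  push Not at hc
  exact hne (Subgroup.eq_of_le_of_card_ge (fun x hx => by rw [hc x hx]; exact one_mem _) h.card_eq.ge)

namespace Pair

variable {X Y : Subgroup G} (h : D.Pair X Y)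
include h

/-- some element normalizing `V × X` maps `V` to `X` -/
lemma exists_switch : ∃ e ∈ normalizer ((D.V ⊔ X : Subgroup G) : Set G), cj e D.V = X := by
  obtain ⟨g, hg⟩ := h.left.isNode
  haveI : Fact (Nat.Prime 2) := ⟨Nat.prime_two⟩
  -- `J = M ∩ N(X)` and a Sylow 2-subgroup of it
  let J : Subgroup G := D.M ⊓ normalizer (X : Set G)
  let T : Sylow 2 J := Classical.choice inferInstance
  let T0 : Subgroup G := (T : Subgroup J).map J.subtype
  have hT0J : T0 ≤ J := Subgroup.map_subtype_le _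
  have hT0p : IsPGroup 2 T0 := T.isPGroup'.map _
  let B : Subgroup G := D.P ⊓ centralizer (X : Set G)
  have hBJ : B ≤ J := fun b hb => ⟨D.P_le_M hb.1, by
    refine mem_normalizer_of_cj_le fun x hx => ?_
    have h1 := mem_centralizer_iff.1 hb.2 _ (mem_cj.1 hx)
    have h2 : b * (b⁻¹ * x * b) * b⁻¹ = b⁻¹ * x * b := by rw [← h1, mul_inv_cancel_right]
    rw [show x = b * (b⁻¹ * x * b) * b⁻¹ by group, h2]
    exact mem_cj.1 hx⟩
  have hBT : B ≤ T0 := by
    haveI : (B.subgroupOf J).Normal := ⟨fun b hb j => by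
      refine ⟨D.P_normal j.2.1 hb.1, mem_centralizer_iff.2 fun x hx => ?_⟩
      have hx' : (j : G)⁻¹ * x * j ∈ X := by
        simpa using (mem_normalizer_iff.1 (inv_mem j.2.2) x).1 hx
      have := congrArg (fun y => (j : G) * y * (j : G)⁻¹) (mem_centralizer_iff.1 hb.2 _ hx')
      simpa [mul_assoc] using this⟩
    have hp : IsPGroup 2 (B.subgroupOf J) :=
      (D.P_pgroup.to_le inf_le_left).of_equiv (Subgroup.subgroupOfEquivOfLe hBJ).symm
    obtain ⟨T', hT'⟩ := hp.exists_le_sylow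
    obtain ⟨j, hj⟩ := MulAction.exists_smul_eq J T' T
    intro b hb
    have h1 : (⟨b, hBJ hb⟩ : J) ∈ (T : Subgroup J) := by
      rw [← hj, Sylow.coe_subgroup_smul]
      refine Subgroup.mem_pointwise_smul_iff_inv_smul_mem.2 (hT' ?_)
      have := (inferInstance : (B.subgroupOf J).Normal).conj_mem ⟨b, hBJ hb⟩ hb j⁻¹
      simpa [MulAut.smul_def] using this
    exact ⟨_, h1, rfl⟩
  -- `T0 P` is a larger 2-subgroup of `M`, so `T0` is not Sylow in `N(X)`
  have hcard : Nat.card (normalizer (X : Set G)) = Nat.card D.M := by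
    have : cj g D.M = normalizer (X : Set G) := by
      ext m
      rw [mem_cj, D.mem_M_iff, mem_normalizer_iff_cj, ← hg, ← cj_cj (g⁻¹ * m) g, ← cj_cj g⁻¹ m,
        ← cj_eq_iff, eq_comm]
    rw [← this, card_cj]
  have hT0P : IsPGroup 2 (T0 ⊔ D.P : Subgroup G) :=
    hT0p.to_sup_of_normal_right' D.P_pgroup (fun t ht => mem_normalizer_iff.2 fun p =>
      ⟨fun hp => D.P_normal (hT0J ht).1 hp, fun hp => by
        have := D.P_normal (inv_mem (hT0J ht).1) hp
        simpa [mul_assoc] using this⟩)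
  obtain ⟨y0, hy0, hy01⟩ := h.right.isNode.nontrivial h.right.ne
  have hy0J : y0 ∉ J := by
    intro hj
    obtain ⟨x0, hx0, hx01⟩ := h.left.isNode.nontrivial h.left.ne
    have h1 : ⁅x0, y0⁆ = 1 := h.left.isNode.eq_one_of_mem_V h.left.ne (by
      rw [commutatorElement_def, mul_assoc, mul_assoc, ← mul_assoc y0]
      exact mul_mem hx0 ((mem_normalizer_iff.1 hj.2 _).1 (inv_mem hx0))) (h.comm_mem hx0 hy0)
    exact hy01 (h.faithful x0 hx0 hx01 y0 hy0 (commutatorElement_eq_one_iff_mul_comm.1 h1))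
  have hlt : Nat.card T0 < Nat.card (T0 ⊔ D.P : Subgroup G) := by
    by_contra hc
    have := Subgroup.eq_of_le_of_card_ge (le_sup_left (a := T0) (b := D.P)) (not_lt.1 hc)
    exact hy0J (hT0J (this ▸ Subgroup.mem_sup_right (h.mem_P_right hy0)))
  obtain ⟨S, hS⟩ : ∃ S : Sylow 2 (normalizer (X : Set G)),
      T0.subgroupOf (normalizer (X : Set G)) ≤ S :=
    (hT0p.of_equiv (Subgroup.subgroupOfEquivOfLe (hT0J.trans inf_le_right)).symm).exists_le_sylow
  let S0 : Subgroup G := (S : Subgroup (normalizer (X : Set G))).map (Subgroup.subtype _)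
  have hS0N : S0 ≤ normalizer (X : Set G) := Subgroup.map_subtype_le _
  have hT0S : T0 ≤ S0 := fun t ht => ⟨⟨t, (hT0J ht).2⟩, hS ht, rfl⟩
  have hS0p : IsPGroup 2 S0 := S.isPGroup'.map _
  have hlt2 : Nat.card T0 < Nat.card S0 := by
    refine lt_of_lt_of_le hlt ?_
    obtain ⟨k, hk⟩ := hT0P.exists_card_eq
    have hle : (T0 ⊔ D.P : Subgroup G) ≤ D.M := sup_le (fun t ht => (hT0J ht).1) D.P_le_M
    have hd := Subgroup.card_dvd_of_le hle
    rw [hk, ← hcard] at hd
    have h1 : Nat.card S0 = Nat.card (S : Subgroup (normalizer (X : Set G))) :=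
      Subgroup.card_map_of_injective (Subgroup.subtype_injective _)
    rw [h1, S.card_eq_multiplicity, hk]
    exact Nat.pow_le_pow_right two_pos
      ((Nat.Prime.pow_dvd_iff_le_factorization Nat.prime_two Nat.card_pos.ne').1 hd)
  obtain ⟨d, hdS, hdN, hdT⟩ : ∃ d ∈ S0, d ∈ normalizer (T0 : Set G) ∧ d ∉ T0 := by
    have := hS0p.isNilpotent
    have hne : T0.subgroupOf S0 < ⊤ := by
      rw [lt_top_iff_ne_top]
      intro h0
      rw [Subgroup.subgroupOf_eq_top] at h0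
      exact absurd (Subgroup.card_le_of_le h0) (not_le.2 hlt2)
    obtain ⟨d, hd, hd'⟩ := SetLike.exists_of_lt
      (Group.normalizerCondition_of_isNilpotent (G := S0) _ hne)
    refine ⟨d, d.2, mem_normalizer_of_cj_le fun t ht => ?_, hd'⟩
    have h1 := mem_cj.1 ht
    have := (mem_normalizer_iff.1 hd ⟨(d : G)⁻¹ * t * d, hT0S h1⟩).1 h1
    simpa [Subgroup.mem_subgroupOf, mul_assoc] using this
  have hdJ : d ∉ J := by
    intro hj
    let R : Subgroup G := closure (insert d (T0 : Set G))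
    have hRS : R ≤ S0 := (closure_le _).2 (Set.insert_subset hdS hT0S)
    have hRJ : R ≤ J := (closure_le _).2 (Set.insert_subset hj hT0J)
    have hRp : IsPGroup 2 (R.subgroupOf J) :=
      (hS0p.to_le hRS).of_equiv (Subgroup.subgroupOfEquivOfLe hRJ).symm
    have hle : (T : Subgroup J) ≤ R.subgroupOf J := fun t ht =>
      subset_closure (Or.inr ⟨t, ht, rfl⟩)
    have heq := T.is_maximal' hRp hle
    apply hdT
    refine ⟨⟨d, hj⟩, ?_, rfl⟩
    rw [← heq]
    exact subset_closure (Or.inl rfl)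
  have hdX : cj d X = X := mem_normalizer_iff_cj.1 (hS0N hdS)
  have hdV : cj d D.V ≠ D.V := fun h0 => hdJ ⟨D.mem_M_iff.2 h0, hS0N hdS⟩
  have hUnode : D.IsNode (cj d D.V) := ⟨d, rfl⟩
  -- the fixed point
  have hT0norm : ∀ t ∈ T0, ∀ u ∈ cj d D.V, t * u * t⁻¹ ∈ cj d D.V := by
    intro t ht u hu
    have ht' : d⁻¹ * t * d ∈ T0 := by
      simpa using (mem_normalizer_iff.1 (inv_mem hdN) t).1 ht
    have := D.conj_mem_V (hT0J ht').1 (mem_cj.1 hu)
    rw [mem_cj]
    simpa [mul_assoc] using this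
  obtain ⟨z, hzU, hz1, hzT⟩ : ∃ z ∈ cj d D.V, z ≠ 1 ∧ ∀ t ∈ T0, Commute z t := by
    let R : Subgroup G := T0 ⊔ cj d D.V
    have hRp : IsPGroup 2 R := hT0p.to_sup_of_normal_right' ((D.Q_pgroup.to_le D.V_le).map _)
      (fun t ht => mem_normalizer_of_cj_le fun u hu => by
        have := hT0norm t ht _ (mem_cj.1 hu)
        simpa [mul_assoc] using this)
    haveI : ((cj d D.V).subgroupOf R).Normal := by
      constructor
      intro u hu r
      have hle : R ≤ normalizer ((cj d D.V : Subgroup G) : Set G) :=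
        sup_le (fun t ht => mem_normalizer_of_cj_le fun u hu => by
          have := hT0norm t ht _ (mem_cj.1 hu)
          simpa [mul_assoc] using this) le_normalizer
      exact (mem_normalizer_iff.1 (hle r.2) _).1 hu
    obtain ⟨x0, hx0, hx01⟩ := hUnode.nontrivial hdV
    obtain ⟨z, hz, hzc, hz1⟩ := Cfsg.Agent.Lib.Critical.exists_center_mem hRp
      (N := (cj d D.V).subgroupOf R) (by
        intro h0
        have h1 : (⟨x0, Subgroup.mem_sup_right hx0⟩ : R) ∈ (cj d D.V).subgroupOf R := hx0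
        rw [h0, Subgroup.mem_bot] at h1
        exact hx01 (congrArg Subtype.val h1))
    refine ⟨z, hz, fun h0 => hz1 (Subtype.ext h0), fun t ht => ?_⟩
    have := Subgroup.mem_center_iff.1 hzc ⟨t, Subgroup.mem_sup_left ht⟩
    exact (congrArg Subtype.val this).symm
  have hVT : D.V ≤ T0 := fun v hv => hBT ⟨D.V_le_P hv, mem_centralizer_iff.2 fun x hx =>
    (D.P_comm_V (h.mem_P_left hx) hv).symm⟩
  have hzV : ∀ v ∈ D.V, Commute z v := fun v hv => hzT v (hVT hv)
  have hzM : z ∈ D.M := mem_normalizer_of_cj_le fun v hv => by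
    have h1 := mem_cj.1 hv
    rw [show v = z * (z⁻¹ * v * z) * z⁻¹ by group, (hzV _ h1).eq, mul_inv_cancel_right]
    exact h1
  have hzW : z ∈ D.V ⊔ X := h.mem_W_of_centralizes' hzM hzV fun b hb hbX =>
    hzT b (hBT ⟨hb, mem_centralizer_iff.2 fun x hx => (hbX x hx).eq.symm⟩)
  obtain ⟨y, hy, hzy⟩ := h.exists_cover hzW (fun h0 => hz1 (hUnode.eq_one_of_mem_V hdV hzU h0))
  have hU : cj d D.V = cj y X := hUnode.eq_of_mem (h.left.isNode.cj y) hz1 hzU hzy
  have hdW : d ∈ normalizer ((D.V ⊔ X : Subgroup G) : Set G) := by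
    refine mem_normalizer_of_cj_le ?_
    rw [cj, Subgroup.map_sup]
    exact sup_le (by rw [← cj, hU]; exact h.cj_le_W hy) (by rw [← cj, hdX]; exact le_sup_right)
  have hyW : y ∈ normalizer ((D.V ⊔ X : Subgroup G) : Set G) := by
    refine mem_normalizer_of_cj_le ?_
    rw [cj, Subgroup.map_sup]
    exact sup_le (by rw [← cj, D.mem_M_iff.1 (D.P_le_M (h.mem_P_right hy))]; exact le_sup_left)
      (by rw [← cj]; exact h.cj_le_W hy)
  refine ⟨y⁻¹ * d, mul_mem (inv_mem hyW) hdW, ?_⟩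
  rw [← cj_cj, hU, cj_cj, inv_mul_cancel, cj_one]

end Pair

/-- (a): `V ≤ O₂(N(X))` -/
lemma GoodNode.symm_Q {X : Subgroup G} (h : D.GoodNode X) {g : G} (hg : cj g D.V = X) :
    D.V ≤ cj g D.Q ∧ D.GoodNode (cj g⁻¹ D.V) := by
  obtain ⟨Y, hXY⟩ := h.exists_pair
  obtain ⟨e, heW, he⟩ := hXY.exists_switch
  have hm : e⁻¹ * g ∈ D.M := by rw [D.mem_M_iff, ← cj_cj, hg, ← cj_eq_iff]; exact he
  have hQe : cj g D.Q = cj e D.Q := by
    conv_rhs => rw [← cj_Q_of_mem_M hm]
    rw [cj_cj, mul_inv_cancel_left]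
  have h1 : cj e⁻¹ D.V ≤ D.P := by
    refine le_trans ?_ h.W_le_P
    refine le_trans (cj_mono _ (le_sup_left : D.V ≤ D.V ⊔ X)) ?_
    rw [mem_normalizer_iff_cj.1 (inv_mem heW)]
  have h2 : D.V ≤ cj e D.Q := by
    have := cj_mono e (h1.trans D.P_le_Q)
    rwa [cj_cj, mul_inv_cancel, cj_one] at this
  refine ⟨hQe ▸ h2, ?_⟩
  refine IsNode.good_of_le_Q ⟨g⁻¹, rfl⟩ ?_ ?_
  · intro h0
    apply h.ne
    rw [← hg, cj_eq_iff, h0]
  · have := cj_mono g⁻¹ (hQe ▸ h2)
    rwa [cj_cj, inv_mul_cancel, cj_one] at this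

/-- elements of `g P g⁻¹` act on `V × X` (where `X = g V g⁻¹`) trivially on `X` and on the quotient by `X` -/
lemma GoodNode.lower_mem {X : Subgroup G} (h : D.GoodNode X) {g : G} (hg : cj g D.V = X) {p : G}
    (hp : p ∈ cj g D.P) : (∀ x ∈ X, Commute p x) ∧ ∀ v ∈ D.V, ⁅p, v⁆ ∈ X := by
  have hp' := mem_cj.1 hp
  refine ⟨fun x hx => ?_, fun v hv => ?_⟩
  · have hx' : g⁻¹ * x * g ∈ D.V := by rw [← hg, mem_cj] at hx; exact hx
    have := congrArg (fun y => g * y * g⁻¹) (D.P_comm_V hp' hx')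
    exact (show Commute x p from by simpa [mul_assoc, Commute, SemiconjBy] using this).symm
  · have hv' : g⁻¹ * v * g ∈ cj g⁻¹ D.V := by
      simpa using conj_mem_cj (g := g⁻¹) hv
    have h1 := D.comm_mem hp' ((h.symm_Q hg).2.le hv')
    rw [← hg, mem_cj]
    simpa [commutatorElement_def, mul_assoc] using h1

/-- `g P g⁻¹` is transitive on the nodes in `V × X` other than `X = g V g⁻¹` -/
lemma GoodNode.lower_exists {X : Subgroup G} (h : D.GoodNode X) {g : G} (hg : cj g D.V = X)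
    {Z : Subgroup G} (hZ : D.IsNode Z) (hZW : Z ≤ D.V ⊔ X) (hne : Z ≠ X) :
    ∃ p ∈ cj g D.P, cj p D.V = Z := by
  have hX' := (h.symm_Q hg).2
  obtain ⟨Y', hpair⟩ := hX'.exists_pair
  have hZ' : cj g⁻¹ Z ≤ D.V ⊔ cj g⁻¹ D.V := by
    refine le_trans (cj_mono g⁻¹ hZW) ?_
    rw [cj, Subgroup.map_sup]
    refine sup_le le_sup_right ?_
    rw [← cj, cj_eq_iff.1 hg]
    exact le_sup_left
  obtain ⟨y, hy, hyZ⟩ := hpair.node_eq (hZ.cj g⁻¹) hZ' (fun h0 => hne (by rw [← hg, ← h0, cj_cj, mul_inv_cancel, cj_one]))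
  refine ⟨g * y * g⁻¹, conj_mem_cj (hpair.mem_P_right hy), ?_⟩
  rw [← cj_cj, ← cj_cj, ← hyZ, cj_cj, mul_inv_cancel, cj_one]

/-- a conjugate of `P` normalizes `V × X` -/
lemma GoodNode.lower_normalizes {X : Subgroup G} (h : D.GoodNode X) {g : G} (hg : cj g D.V = X) {p : G}
    (hp : p ∈ cj g D.P) : p ∈ normalizer ((D.V ⊔ X : Subgroup G) : Set G) := by
  obtain ⟨h1, h2⟩ := h.lower_mem hg hp
  refine mem_normalizer_of_cj_le ?_
  rw [cj, Subgroup.map_sup]
  refine sup_le ?_ ?_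
  · rintro _ ⟨v, hv, rfl⟩
    show p * v * p⁻¹ ∈ D.V ⊔ X
    rw [conj_eq_comm_mul]
    exact mul_mem (Subgroup.mem_sup_right (h2 v hv)) (Subgroup.mem_sup_left hv)
  · rintro _ ⟨x, hx, rfl⟩
    show p * x * p⁻¹ ∈ D.V ⊔ X
    rw [(h1 x hx).eq, mul_inv_cancel_right]
    exact Subgroup.mem_sup_right hx

namespace Pair

variable {X Y : Subgroup G}

/-- the inverses of the maps `⁅a, ·⁆` form an additive set -/
lemma inv_additive (h : D.Pair X Y) {a b : G} (ha : a ∈ X) (hb : b ∈ X) (ha1 : a ≠ 1) (hb1 : b ≠ 1)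
    (hab : a ≠ b) :
    ∃ c ∈ X, ∀ y ∈ Y, ∀ y' ∈ Y, ⁅a, y⁆ = ⁅b, y'⁆ → ⁅c, y * y'⁆ = ⁅a, y⁆ := by
  have hY := h.right
  have h' := h.symm
  obtain ⟨g, hg⟩ := hY.isNode
  have key : ∀ c ∈ X, c ≠ 1 → ∃ p ∈ cj g D.P, cj p D.V = cj c Y := by
    intro c hc hc1
    refine hY.lower_exists hg (hY.isNode.cj c) (h'.cj_le_W hc) fun h0 => ?_
    obtain ⟨y0, hy0, hy01⟩ := hY.isNode.nontrivial hY.ne
    have hcN : c ∈ normalizer (Y : Set G) := mem_normalizer_iff_cj.2 h0
    have h1 := hY.isNode.eq_one_of_mem_V hY.ne (u := ⁅c, y0⁆)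
      (by rw [commutatorElement_def]
          exact mul_mem ((mem_normalizer_iff.1 hcN _).1 hy0) (inv_mem hy0))
      (h.comm_mem hc hy0)
    exact hy01 (h.faithful c hc hc1 y0 hy0 (commutatorElement_eq_one_iff_mul_comm.1 h1))
  -- what a lower element does to `v`
  have key2 : ∀ c ∈ X, ∀ p ∈ cj g D.P, cj p D.V = cj c Y → ∀ v ∈ D.V, ⁅c, ⁅p, v⁆⁆ = v := by
    intro c hc p hp hpc v hv
    have h1 : p * v * p⁻¹ ∈ cj c Y := hpc ▸ conj_mem_cj hv
    obtain ⟨y, hy, hye⟩ := h1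
    change c * y * c⁻¹ = _ at hye
    rw [conj_eq_comm_mul c y, conj_eq_comm_mul p v] at hye
    have hpv := (hY.lower_mem hg hp).2 v hv
    rw [← (D.P_commute (hY.le hpv) hv).eq] at hye
    obtain ⟨e1, e2⟩ := hY.W_unique (h.comm_mem hc hy) hv hy hpv hye
    rw [← e2, e1]
  obtain ⟨pa, hpa, hpaV⟩ := key a ha ha1
  obtain ⟨pb, hpb, hpbV⟩ := key b hb hb1
  have hp : pa * pb ∈ cj g D.P := mul_mem hpa hpb
  have hmul : ∀ v ∈ D.V, ⁅pa * pb, v⁆ = ⁅pa, v⁆ * ⁅pb, v⁆ := by
    intro v hv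
    have hb' := (hY.lower_mem hg hpb).2 v hv
    have ha' := (hY.lower_mem hg hpa).2 v hv
    have : ⁅pa * pb, v⁆ = (pa * ⁅pb, v⁆ * pa⁻¹) * ⁅pa, v⁆ := by simp only [commutatorElement_def]; group
    rw [this, ((hY.lower_mem hg hpa).1 _ hb').eq, mul_inv_cancel_right, (hY.isNode.comm hb' ha').eq]
  have hne : cj (pa * pb) D.V ≠ D.V := by
    intro h0
    obtain ⟨y0, hy0, hy01⟩ := hY.isNode.nontrivial hY.ne
    -- then `pa` and `pb` agree, forcing `a = b`
    have hv := h.comm_mem ha hy0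
    have h1 : ⁅pa * pb, ⁅a, y0⁆⁆ = 1 := by
      refine hY.isNode.eq_one_of_mem_V hY.ne ((hY.lower_mem hg hp).2 _ hv) ?_
      rw [commutatorElement_def]
      exact mul_mem (h0 ▸ conj_mem_cj hv) (inv_mem hv)
    rw [hmul _ hv] at h1
    have h2 : ⁅pa, ⁅a, y0⁆⁆ = ⁅pb, ⁅a, y0⁆⁆ :=
      (mul_eq_one_iff_eq_inv.1 h1).trans (hY.isNode.inv_eq ((hY.lower_mem hg hpb).2 _ hv))
    have h3 : ⁅pa, ⁅a, y0⁆⁆ = y0 := h.eq_of_comm_eq ha ha1 ((hY.lower_mem hg hpa).2 _ hv) hy0
      (key2 a ha pa hpa hpaV _ hv)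
    have h4 : ⁅b, y0⁆ = ⁅a, y0⁆ := by
      have := key2 b hb pb hpb hpbV _ hv
      rwa [← h2, h3] at this
    refine hab (h'.eq_of_comm_eq hy0 hy01 ha hb ?_)
    rw [comm_swap (h.mem_P_left ha) (h.mem_P_right hy0), comm_swap (h.mem_P_left hb) (h.mem_P_right hy0), h4]
  have hle : cj (pa * pb) D.V ≤ D.V ⊔ Y := by
    refine le_trans (cj_mono _ (le_sup_left : D.V ≤ D.V ⊔ Y)) ?_
    rw [mem_normalizer_iff_cj.1 (hY.lower_normalizes hg hp)]
  obtain ⟨c, hc, hcV⟩ := h'.node_eq ⟨pa * pb, rfl⟩ hle hne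
  refine ⟨c, hc, fun y hy y' hy' he => ?_⟩
  have hv := h.comm_mem ha hy
  have h1 := key2 c hc (pa * pb) hp hcV _ hv
  rw [hmul _ hv] at h1
  have hya : ⁅pa, ⁅a, y⁆⁆ = y :=
    h.eq_of_comm_eq ha ha1 ((hY.lower_mem hg hpa).2 _ hv) hy (key2 a ha pa hpa hpaV _ hv)
  have hyb : ⁅pb, ⁅a, y⁆⁆ = y' :=
    h.eq_of_comm_eq hb hb1 ((hY.lower_mem hg hpb).2 _ hv) hy' ((key2 b hb pb hpb hpbV _ hv).trans he)
  rwa [hya, hyb] at h1

/-- the field coordinatizing a pair -/
theorem exists_coord (h : D.Pair X Y) :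
    ∃ (F : Type) (_ : Field F) (_ : Fintype F) (φX φY φV : F → G),
      (Function.Injective φX ∧ Set.range φX = X ∧ ∀ s t, φX (s + t) = φX s * φX t) ∧
      (Function.Injective φY ∧ Set.range φY = Y ∧ ∀ s t, φY (s + t) = φY s * φY t) ∧
      (Function.Injective φV ∧ Set.range φV = D.V ∧ ∀ s t, φV (s + t) = φV s * φV t) ∧
      ∀ s t, ⁅φX s, φY t⁆ = φV (s * t) := by
  letI : CommGroup X := { (inferInstance : Group X) with
    mul_comm := fun a b => Subtype.ext (h.left.isNode.comm a.2 b.2).eq }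
  letI : CommGroup Y := { (inferInstance : Group Y) with
    mul_comm := fun a b => Subtype.ext (h.right.isNode.comm a.2 b.2).eq }
  letI : CommGroup D.V := { (inferInstance : Group D.V) with
    mul_comm := fun a b => Subtype.ext (D.comm _ a.2 _ b.2) }
  let β : Additive X →+ Additive Y →+ Additive D.V :=
    AddMonoidHom.mk' (fun a => AddMonoidHom.mk'
      (fun b => Additive.ofMul (⟨⁅((Additive.toMul a : X) : G), ((Additive.toMul b : Y) : G)⁆,
        h.comm_mem (Additive.toMul a).2 (Additive.toMul b).2⟩ : D.V))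
      (fun b b' => congrArg Additive.ofMul (Subtype.ext
        (comm_mul_right (h.mem_P_right (Additive.toMul b).2) (h.mem_P_right (Additive.toMul b').2)
          (h.mem_P_left (Additive.toMul a).2)))))
      (fun a a' => AddMonoidHom.ext fun b => congrArg Additive.ofMul (Subtype.ext
        (comm_mul_left (h.mem_P_left (Additive.toMul a).2) (h.mem_P_left (Additive.toMul a').2)
          (h.mem_P_right (Additive.toMul b).2))))
  have hval : ∀ a b, ((Additive.toMul (β a b) : D.V) : G) =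
      ⁅((Additive.toMul a : X) : G), ((Additive.toMul b : Y) : G)⁆ := fun _ _ => rfl
  have hX0 : ∀ a : Additive X, a ≠ 0 → ((Additive.toMul a : X) : G) ≠ 1 := fun a ha h0 =>
    ha (show Additive.ofMul (Additive.toMul a) = Additive.ofMul 1 from congrArg _ (Subtype.ext h0))
  have hY0 : ∀ a : Additive Y, a ≠ 0 → ((Additive.toMul a : Y) : G) ≠ 1 := fun a ha h0 =>
    ha (show Additive.ofMul (Additive.toMul a) = Additive.ofMul 1 from congrArg _ (Subtype.ext h0))
  have hext : ∀ {u v : Additive D.V}, ((Additive.toMul u : D.V) : G) = ((Additive.toMul v : D.V) : G) → u = v :=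
    fun he => congrArg Additive.ofMul (Subtype.ext he : (Additive.toMul _ : D.V) = _)
  obtain ⟨x0, hx0, hx01⟩ := h.left.isNode.nontrivial h.left.ne
  obtain ⟨y0, hy0, hy01⟩ := h.right.isNode.nontrivial h.right.ne
  obtain ⟨F, iF, iFt, φU, φY, φV, -, -, hmul⟩ := TISL2.exists_field β
    (fun a => congrArg Additive.ofMul (Subtype.ext (h.left.isNode.sq (Additive.toMul a).2)))
    (fun a => congrArg Additive.ofMul (Subtype.ext (h.right.isNode.sq (Additive.toMul a).2)))
    (fun a ha => (Nat.bijective_iff_injective_and_card _).2 ⟨fun b b' he => by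
      have := congrArg (fun u => ((Additive.toMul u : D.V) : G)) he
      exact congrArg Additive.ofMul (Subtype.ext
        (h.eq_of_comm_eq (Additive.toMul a).2 (hX0 a ha) (Additive.toMul b).2 (Additive.toMul b').2 this)),
      h.right.isNode.card_eq⟩)
    (fun b hb => (Nat.bijective_iff_injective_and_card _).2 ⟨fun a a' he => by
      have h1 := congrArg (fun u => ((Additive.toMul u : D.V) : G)) he
      simp only [AddMonoidHom.flip_apply, hval] at h1
      refine congrArg Additive.ofMul (Subtype.ext (h.symm.eq_of_comm_eq (Additive.toMul b).2 (hY0 b hb)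
        (Additive.toMul a).2 (Additive.toMul a').2 ?_))
      exact (comm_swap (h.mem_P_left (Additive.toMul a).2) (h.mem_P_right (Additive.toMul b).2)).trans
        (h1.trans (comm_swap (h.mem_P_left (Additive.toMul a').2)
          (h.mem_P_right (Additive.toMul b).2)).symm),
      h.left.isNode.card_eq⟩)
    (fun a b ha hb hab => by
      obtain ⟨c, hc, hcs⟩ := h.inv_additive (Additive.toMul a).2 (Additive.toMul b).2 (hX0 a ha) (hX0 b hb)
        (fun h0 => hab (congrArg Additive.ofMul (Subtype.ext h0)))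
      exact ⟨Additive.ofMul ⟨c, hc⟩, fun y y' he => hext (hcs _ (Additive.toMul y).2 _ (Additive.toMul y').2
        (congrArg (fun u => ((Additive.toMul u : D.V) : G)) he))⟩)
    (fun a b ha hb hab => by
      obtain ⟨c, hc, hcs⟩ := h.symm.inv_additive (Additive.toMul a).2 (Additive.toMul b).2 (hY0 a ha) (hY0 b hb)
        (fun h0 => hab (congrArg Additive.ofMul (Subtype.ext h0)))
      refine ⟨Additive.ofMul ⟨c, hc⟩, fun y y' he => hext ?_⟩
      have he' := congrArg (fun u => ((Additive.toMul u : D.V) : G)) he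
      simp only [AddMonoidHom.flip_apply, hval] at he' ⊢
      have sw : ∀ {x : G}, x ∈ X → ∀ {z : G}, z ∈ Y → ⁅x, z⁆ = ⁅z, x⁆ := fun hx _ hz =>
        comm_swap (h.mem_P_right hz) (h.mem_P_left hx)
      rw [sw (Additive.toMul y).2 (Additive.toMul a).2, sw (Additive.toMul y').2 (Additive.toMul b).2] at he'
      rw [sw (Additive.toMul y).2 (Additive.toMul a).2]
      exact (sw (Additive.toMul (y + y')).2 hc).trans
        (hcs _ (Additive.toMul y).2 _ (Additive.toMul y').2 he'))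
    (Additive.ofMul ⟨x0, hx0⟩) (Additive.ofMul ⟨y0, hy0⟩)
    (fun h0 => hx01 (congrArg (fun u => ((Additive.toMul u : X) : G)) h0))
    (fun h0 => hy01 (congrArg (fun u => ((Additive.toMul u : Y) : G)) h0))
  refine ⟨F, iF, iFt, fun s => ((Additive.toMul (φU s) : X) : G), fun s => ((Additive.toMul (φY s) : Y) : G),
    fun s => ((Additive.toMul (φV s) : D.V) : G), ⟨?_, ?_, ?_⟩, ⟨?_, ?_, ?_⟩, ⟨?_, ?_, ?_⟩, ?_⟩
  · exact fun s t he => φU.injective (congrArg Additive.ofMul (Subtype.ext he : (Additive.toMul _ : X) = _))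
  · ext x
    exact ⟨by rintro ⟨s, rfl⟩; exact (Additive.toMul (φU s)).2,
      fun hx => ⟨φU.symm (Additive.ofMul ⟨x, hx⟩), by simp⟩⟩
  · intro s t; simp [map_add, toMul_add]
  · exact fun s t he => φY.injective (congrArg Additive.ofMul (Subtype.ext he : (Additive.toMul _ : Y) = _))
  · ext x
    exact ⟨by rintro ⟨s, rfl⟩; exact (Additive.toMul (φY s)).2,
      fun hx => ⟨φY.symm (Additive.ofMul ⟨x, hx⟩), by simp⟩⟩
  · intro s t; simp [map_add, toMul_add]
  · exact fun s t he => φV.injective (congrArg Additive.ofMul (Subtype.ext he : (Additive.toMul _ : D.V) = _))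
  · ext x
    exact ⟨by rintro ⟨s, rfl⟩; exact (Additive.toMul (φV s)).2,
      fun hx => ⟨φV.symm (Additive.ofMul ⟨x, hx⟩), by simp⟩⟩
  · intro s t; simp [map_add, toMul_add]
  · intro s t
    rw [← hval, hmul]

end Pair

end Hyp

end Cfsg.Agent.TISL2
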