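import Mathlib
import Cfsg.Agent.Lib.TISL2.Spread
import Cfsg.Agent.Lib.SL2.Basic
import Cfsg.Agent.Lib.PGroup.Frattini

/-!
The conclusions of the TI lemma.
-/

set_option autoImplicit false

namespace Cfsg.Agent.TISL2

open Subgroup Cfsg.Agent.Lib.SL2
open scoped commutatorElement

variable {G : Type*} [Group G]

lemma closure_transvections (F : Type*) [Field F] :
    closure (Set.range (upper : F → SLtwo F) ∪ Set.range (lower : F → SLtwo F)) = ⊤ := by
  rw [eq_top_iff]
  intro g _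
  have hu : ∀ t : F, upper t ∈ closure (Set.range (upper : F → SLtwo F) ∪ Set.range (lower : F → SLtwo F)) :=
    fun t => subset_closure (Or.inl ⟨t, rfl⟩)
  have hl : ∀ t : F, lower t ∈ closure (Set.range (upper : F → SLtwo F) ∪ Set.range (lower : F → SLtwo F)) :=
    fun t => subset_closure (Or.inr ⟨t, rfl⟩)
  have key : ∀ g : SLtwo F, g 1 0 ≠ 0 →
      g ∈ closure (Set.range (upper : F → SLtwo F) ∪ Set.range (lower : F → SLtwo F)) := by
    intro g hg
    have e : g = upper ((g 0 0 - 1) / g 1 0) * lower (g 1 0) * upper ((g 1 1 - 1) / g 1 0) := by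
      have hd := det_entries g
      apply ext_entries <;> simp [mul_00, mul_01, mul_10, mul_11] <;> field_simp <;>
        first | ring1 | linear_combination hd | linear_combination -hd
    rw [e]
    exact mul_mem (mul_mem (hu _) (hl _)) (hu _)
  by_cases h : g 1 0 = 0
  · have h11 : g 1 1 ≠ 0 := fun h0 => by
      have := det_entries g
      rw [h, h0] at this
      simp at this
    have h2 := key (g * lower 1) (by simpa [mul_10, h] using h11)
    have := mul_mem h2 (inv_mem (hl 1))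
    rwa [mul_inv_cancel_right] at this
  · exact key g h

/-- `SL₂` on pairs -/
def pairPerm (F : Type*) [Field F] : SLtwo F →* Equiv.Perm (F × F) :=
  MonoidHom.mk' (fun A =>
    { toFun := fun w => (A 0 0 * w.1 + A 0 1 * w.2, A 1 0 * w.1 + A 1 1 * w.2)
      invFun := fun w => (A 1 1 * w.1 - A 0 1 * w.2, -(A 1 0) * w.1 + A 0 0 * w.2)
      left_inv := fun w => by
        have hd := det_entries A
        refine Prod.ext ?_ ?_ <;> dsimp
        · linear_combination w.1 * hd
        · linear_combination w.2 * hd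
      right_inv := fun w => by
        have hd := det_entries A
        refine Prod.ext ?_ ?_ <;> dsimp
        · linear_combination w.1 * hd
        · linear_combination w.2 * hd })
    (fun A B => Equiv.ext fun w => by
      refine Prod.ext ?_ ?_ <;> simp [mul_00, mul_01, mul_10, mul_11] <;> ring)

lemma pairPerm_injective (F : Type*) [Field F] : Function.Injective (pairPerm F) := by
  intro A B h
  have h1 := Equiv.ext_iff.1 h (1, 0)
  have h2 := Equiv.ext_iff.1 h (0, 1)
  simp [pairPerm] at h1 h2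
  exact ext_entries h1.1 h2.1 h1.2 h2.2

namespace Hyp

variable {D : Hyp G} [Finite G]

/-- `H = ⟨P, g P g⁻¹⟩` modulo the centralizer of `V × X` is `SL₂` on its natural module -/
theorem GoodNode.main {X : Subgroup G} (h : D.GoodNode X) {g : G} (hg : cj g D.V = X) :
    (∀ w ∈ D.V ⊔ X, w ≠ 1 → ∃! U : Subgroup G, D.IsNode U ∧ U ≤ D.V ⊔ X ∧ w ∈ U) ∧
    (D.P ⊔ cj g D.P) ≤ normalizer ((D.V ⊔ X : Subgroup G) : Set G) ∧
    (∀ hN : ((centralizer ((D.V ⊔ X : Subgroup G) : Set G)).subgroupOf (D.P ⊔ cj g D.P)).Normal,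
      ∃ (F : Type) (_ : Field F) (_ : Fintype F), Fintype.card F = Nat.card D.V ∧
        Nonempty (↥(D.P ⊔ cj g D.P) ⧸ (centralizer ((D.V ⊔ X : Subgroup G) : Set G)).subgroupOf (D.P ⊔ cj g D.P)
          ≃* SLtwo F)) ∧
    D.P = D.Q ∧ ⁅D.Q, D.Q⁆ = D.V ∧ (frattini D.Q).map D.Q.subtype = D.V ∧
    (center D.Q).map D.Q.subtype = D.V := by
  classical
  obtain ⟨Y, hp⟩ := h.exists_pair
  obtain ⟨F, _, _, φX, φY, φV, ⟨hXi, hXr, hXa⟩, ⟨hYi, hYr, hYa⟩, ⟨hVi, hVr, hVa⟩, hmul⟩ := hp.exists_coord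
  set W : Subgroup G := D.V ⊔ X with hWdef
  have hXm : ∀ s, φX s ∈ X := fun s => by rw [← SetLike.mem_coe, ← hXr]; exact ⟨s, rfl⟩
  have hYm : ∀ s, φY s ∈ Y := fun s => by rw [← SetLike.mem_coe, ← hYr]; exact ⟨s, rfl⟩
  have hVm : ∀ s, φV s ∈ D.V := fun s => by rw [← SetLike.mem_coe, ← hVr]; exact ⟨s, rfl⟩
  have hXs : ∀ x ∈ X, ∃ s, φX s = x := fun x hx => by rwa [← SetLike.mem_coe, ← hXr] at hx
  have hYs : ∀ x ∈ Y, ∃ s, φY s = x := fun x hx => by rwa [← SetLike.mem_coe, ← hYr] at hx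
  have hVs : ∀ x ∈ D.V, ∃ s, φV s = x := fun x hx => by rwa [← SetLike.mem_coe, ← hVr] at hx
  have h0 : ∀ {φ : F → G}, (∀ s t, φ (s + t) = φ s * φ t) → φ 0 = 1 := fun {φ} ha => by
    have := ha 0 0
    rw [add_zero] at this
    exact (mul_left_cancel (this.symm.trans (mul_one _).symm))
  have hnorm : D.P ⊔ cj g D.P ≤ normalizer (W : Set G) := by
    refine sup_le (fun p hp' => ?_) (fun p hp' => h.lower_normalizes hg hp')
    refine mem_normalizer_of_cj_le fun w hw => ?_
    have hw' := mem_cj.1 hw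
    have h1 : w = ⁅p, p⁻¹ * w * p⁆ * (p⁻¹ * w * p) := by rw [← conj_eq_comm_mul]; group
    rw [h1]
    exact mul_mem (Subgroup.mem_sup_left (D.comm_mem hp' (h.W_le_P hw'))) hw'
  refine ⟨?_, hnorm, ?_⟩
  · intro w hw hw1
    refine existsUnique_of_exists_of_unique ?_ fun U U' hU hU' => hU.1.eq_of_mem hU'.1 hw1 hU.2.2 hU'.2.2
    by_cases hwV : w ∈ D.V
    · exact ⟨D.V, D.isNode_V, le_sup_left, hwV⟩
    · obtain ⟨y, hy, hwy⟩ := hp.exists_cover hw hwV
      exact ⟨cj y X, h.isNode.cj y, hp.cj_le_W hy, hwy⟩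
  -- coordinates on `W`
  let ι : F × F → W := fun w => ⟨φV w.1 * φX w.2,
    mul_mem (Subgroup.mem_sup_left (hVm _)) (Subgroup.mem_sup_right (hXm _))⟩
  have hι : Function.Bijective ι := by
    constructor
    · rintro ⟨a, b⟩ ⟨a', b'⟩ he
      obtain ⟨e1, e2⟩ := h.W_unique (hVm _) (hVm _) (hXm _) (hXm _) (congrArg Subtype.val he)
      exact Prod.ext (hVi e1) (hXi e2)
    · rintro ⟨w, hw⟩
      obtain ⟨v, hv, x, hx, rfl⟩ := h.mem_W.1 hw
      obtain ⟨a, rfl⟩ := hVs v hv
      obtain ⟨b, rfl⟩ := hXs x hx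
      exact ⟨(a, b), rfl⟩
  let e : F × F ≃ W := Equiv.ofBijective ι hι
  let f : normalizer (W : Set G) →* Equiv.Perm (F × F) :=
    MonoidHom.mk' (fun k =>
      { toFun := fun w => e.symm ⟨k * e w * k⁻¹, (mem_normalizer_iff.1 k.2 _).1 (e w).2⟩
        invFun := fun w => e.symm ⟨k⁻¹ * e w * k, by
          simpa using (mem_normalizer_iff.1 (inv_mem k.2) _).1 (e w).2⟩
        left_inv := fun w => by
          rw [Equiv.symm_apply_eq]; ext; simp [mul_assoc]
        right_inv := fun w => by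
          rw [Equiv.symm_apply_eq]; ext; simp [mul_assoc] })
      (fun k l => Equiv.ext fun w => by
        simp only [Equiv.Perm.coe_mul, Function.comp_apply, Equiv.coe_fn_mk]
        congr 1; ext; simp [mul_assoc])
  have hf : ∀ (k : normalizer (W : Set G)) (w w' : F × F),
      (k : G) * (φV w.1 * φX w.2) * (k : G)⁻¹ = φV w'.1 * φX w'.2 → f k w = w' := by
    intro k w w' he
    show e.symm _ = w'
    rw [Equiv.symm_apply_eq]
    exact Subtype.ext he
  let H : Subgroup G := D.P ⊔ cj g D.P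
  let fH : H →* Equiv.Perm (F × F) := f.comp (Subgroup.inclusion hnorm)
  -- the upper unipotent elements
  have hup : ∀ p (hp' : p ∈ D.P) (t : F), (∀ x ∈ X, Commute (p * (φY t)⁻¹) x) →
      fH ⟨p, Subgroup.mem_sup_left hp'⟩ = pairPerm F (upper t) := by
    intro p hp' t hc
    refine Equiv.ext fun w => hf _ w _ ?_
    show p * (φV w.1 * φX w.2) * p⁻¹ = _
    have hb : p * φX w.2 * p⁻¹ = φV (w.2 * t) * φX w.2 := by
      calc p * φX w.2 * p⁻¹
          = (p * (φY t)⁻¹) * (φY t * φX w.2 * (φY t)⁻¹) * (p * (φY t)⁻¹)⁻¹ := by group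
        _ = φV (w.2 * t) * φX w.2 := by
          rw [hp.conj_left (hYm t) (hXm _), hmul]
          have hc' : Commute (p * (φY t)⁻¹) (φV (w.2 * t) * φX w.2) :=
            (D.P_commute (mul_mem hp' (inv_mem (hp.mem_P_right (hYm t)))) (hVm _)).symm.mul_right
              (hc _ (hXm _))
          rw [hc'.eq, mul_inv_cancel_right]
    calc p * (φV w.1 * φX w.2) * p⁻¹ = (p * φV w.1 * p⁻¹) * (p * φX w.2 * p⁻¹) := by group
      _ = φV w.1 * (φV (w.2 * t) * φX w.2) := by
        rw [hb, ← (D.P_commute hp' (hVm w.1)).eq, mul_inv_cancel_right]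
      _ = φV (w.1 + w.2 * t) * φX w.2 := by rw [hVa, mul_assoc]
      _ = _ := by simp [pairPerm, mul_comm]
  have hlow : ∀ p (hp' : p ∈ cj g D.P) (c : F), (∀ a, ⁅p, φV a⁆ = φX (c * a)) →
      fH ⟨p, Subgroup.mem_sup_right hp'⟩ = pairPerm F (lower c) := by
    intro p hp' c hc
    refine Equiv.ext fun w => hf _ w _ ?_
    show p * (φV w.1 * φX w.2) * p⁻¹ = _
    calc p * (φV w.1 * φX w.2) * p⁻¹ = (p * φV w.1 * p⁻¹) * (p * φX w.2 * p⁻¹) := by group
      _ = φX (c * w.1) * φV w.1 * φX w.2 := by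
        rw [conj_eq_comm_mul p (φV w.1), hc, ((h.lower_mem hg hp').1 _ (hXm _)).eq, mul_inv_cancel_right]
      _ = φV w.1 * φX (c * w.1 + w.2) := by
        rw [← (D.P_commute (h.le (hXm _)) (hVm _)).eq, mul_assoc, ← hXa]
      _ = _ := by simp [pairPerm]
  have hnodes : ∀ p ∈ cj g D.P, ∀ t, t ≠ 0 → cj p D.V = cj (φY t) X → ∀ a, ⁅p, φV a⁆ = φX (t⁻¹ * a) := by
    intro p hp' t ht he a
    have h1 : p * φV a * p⁻¹ ∈ cj (φY t) X := he ▸ conj_mem_cj (hVm a)
    obtain ⟨x, hx, hxe⟩ := h1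
    obtain ⟨s, rfl⟩ := hXs x hx
    change φY t * φX s * (φY t)⁻¹ = _ at hxe
    rw [hp.conj_left (hYm t) hx, hmul, conj_eq_comm_mul p (φV a),
      ← (D.P_commute (h.le ((h.lower_mem hg hp').2 _ (hVm a))) (hVm a)).eq] at hxe
    obtain ⟨e1, e2⟩ := h.W_unique (hVm _) (hVm _) hx ((h.lower_mem hg hp').2 _ (hVm a)) hxe
    rw [← e2, ← hVi e1]
    congr 1
    field_simp
  have hrange : fH.range = (pairPerm F).range := by
    apply le_antisymm
    · have hcomap : (⊤ : Subgroup H) ≤ (pairPerm F).range.comap fH := by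
        rw [← Subgroup.subgroupOf_self, Subgroup.subgroupOf_sup (le_sup_left) (le_sup_right)]
        refine sup_le ?_ ?_
        · rintro ⟨p, _⟩ hp'
          change p ∈ D.P at hp'
          obtain ⟨b, y, hb, hbX, hy, rfl⟩ := hp.decomp hp'
          obtain ⟨t, rfl⟩ := hYs y hy
          exact ⟨upper t, (hup (b * φY t) hp' t (fun x hx => by rw [mul_inv_cancel_right]; exact hbX x hx)).symm⟩
        · rintro ⟨p, _⟩ hp'
          change p ∈ cj g D.P at hp'
          obtain ⟨hpX, hpV⟩ := h.lower_mem hg hp'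
          by_cases hV' : cj p D.V = D.V
          · refine ⟨lower 0, (hlow p hp' 0 fun a => ?_).symm⟩
            rw [zero_mul, h0 hXa]
            refine h.isNode.eq_one_of_mem_V h.ne (hpV _ (hVm a)) ?_
            rw [commutatorElement_def]
            exact mul_mem (hV' ▸ conj_mem_cj (hVm a)) (inv_mem (hVm a))
          · have hle : cj p D.V ≤ W := by
              refine le_trans (cj_mono _ (le_sup_left : D.V ≤ W)) ?_
              rw [mem_normalizer_iff_cj.1 (hnorm (Subgroup.mem_sup_right hp'))]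
            obtain ⟨y, hy, hye⟩ := hp.node_eq ⟨p, rfl⟩ hle hV'
            obtain ⟨t, rfl⟩ := hYs y hy
            have ht : t ≠ 0 := by
              rintro rfl
              rw [h0 hYa, cj_one] at hye
              apply h.ne
              have hX1 : cj p X = X := mem_normalizer_iff_cj.1 (mem_normalizer_of_cj_le fun x hx => by
                have h1 := mem_cj.1 hx
                rw [show x = p * (p⁻¹ * x * p) * p⁻¹ by group, (hpX _ h1).eq, mul_inv_cancel_right]
                exact h1)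
              have := congrArg (cj p⁻¹) (hye.trans hX1.symm)
              rwa [cj_cj, cj_cj, inv_mul_cancel, cj_one, cj_one, eq_comm] at this
            exact ⟨lower t⁻¹, (hlow p hp' t⁻¹ (hnodes p hp' t ht hye)).symm⟩
      rintro _ ⟨k, rfl⟩
      exact hcomap (Subgroup.mem_top k)
    · rw [MonoidHom.range_eq_map, ← closure_transvections F, MonoidHom.map_closure, closure_le]
      rintro _ ⟨A, ⟨t, rfl⟩ | ⟨c, rfl⟩, rfl⟩
      · exact ⟨_, hup (φY t) (hp.mem_P_right (hYm t)) t (fun x hx => by rw [mul_inv_cancel]; exact Commute.one_left x)⟩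
      · rcases eq_or_ne c 0 with rfl | hc
        · refine ⟨⟨1, one_mem _⟩, ?_⟩
          rw [show lower (0 : F) = 1 from ext_entries rfl rfl rfl rfl, map_one]
          exact map_one fH
        · have hne : cj (φY c⁻¹) X ≠ X := by
            intro he
            obtain ⟨x, hx, hx1⟩ := h.isNode.nontrivial h.ne
            have h1 := h.isNode.eq_one_of_mem_V h.ne (u := ⁅φY c⁻¹, x⁆)
              (by rw [commutatorElement_def]; exact mul_mem (he ▸ conj_mem_cj hx) (inv_mem hx))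
              (D.comm_mem (hp.mem_P_right (hYm _)) (h.le hx))
            have h2 := hp.faithful x hx hx1 _ (hYm _) (commutatorElement_eq_one_iff_mul_comm.1 h1).symm
            exact inv_ne_zero hc (hYi (h2.trans (h0 hYa).symm))
          obtain ⟨p, hp', hpe⟩ := h.lower_exists hg (h.isNode.cj _) (hp.cj_le_W (hYm _)) hne
          refine ⟨_, hlow p hp' c fun a => ?_⟩
          rw [hnodes p hp' c⁻¹ (inv_ne_zero hc) hpe a, inv_inv]
  have hker : fH.ker = (centralizer (W : Set G)).subgroupOf H := by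
    ext ⟨k, hk⟩
    rw [MonoidHom.mem_ker, Subgroup.mem_subgroupOf, mem_centralizer_iff]
    constructor
    · intro hk1 w hw
      have h1 := Equiv.ext_iff.1 hk1 (e.symm ⟨w, hw⟩)
      have h2 := congrArg (fun z => ((e z : W) : G)) h1
      simp only [fH, f, MonoidHom.coe_comp, Function.comp_apply, MonoidHom.mk'_apply, Equiv.coe_fn_mk,
        Equiv.apply_symm_apply, Equiv.Perm.coe_one, id_eq, Subgroup.coe_inclusion] at h2
      exact (mul_inv_eq_iff_eq_mul.1 h2).symm
    · intro hc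
      refine Equiv.ext fun w => hf _ w w ?_
      show k * _ * k⁻¹ = _
      have := hc (φV w.1 * φX w.2) (ι w).2
      rw [← this, mul_inv_cancel_right]
  refine ⟨fun hN => ⟨F, ‹_›, ‹_›, ?_, ?_⟩, ?_⟩
  · rw [← Nat.card_eq_fintype_card]
    exact Nat.card_congr ((Equiv.ofInjective φV hVi).trans (Equiv.setCongr hVr))
  · exact ⟨(((QuotientGroup.quotientMulEquivOfEq hker.symm).trans (QuotientGroup.quotientKerEquivRange fH)).trans
      (MulEquiv.subgroupCongr hrange)).trans (MonoidHom.ofInjective (pairPerm_injective F)).symm⟩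
  -- `P = Q`
  have hPQ : D.P = D.Q := by
    refine le_antisymm D.P_le_Q fun q hq => D.mem_P.2 ⟨hq, fun v hv => ?_⟩
    haveI : Fact (Nat.Prime 2) := ⟨Nat.prime_two⟩
    haveI : (D.V.subgroupOf D.Q).Normal := ⟨fun u hu r => D.conj_mem_V (D.Q_le_M r.2) hu⟩
    obtain ⟨v0, hv0, hv01⟩ : ∃ v0 ∈ D.V, v0 ≠ (1 : G) :=
      ⟨φV 1, hVm 1, fun h1 => one_ne_zero (hVi (h1.trans (h0 hVa).symm))⟩
    obtain ⟨z, hz, hzc, hz1⟩ := Cfsg.Agent.Lib.Critical.exists_center_mem D.Q_pgroup
      (N := D.V.subgroupOf D.Q) (by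
        intro hb
        have h1 : (⟨v0, D.V_le hv0⟩ : D.Q) ∈ D.V.subgroupOf D.Q := hv0
        rw [hb, Subgroup.mem_bot] at h1
        exact hv01 (congrArg Subtype.val h1))
    obtain ⟨a0, ha0⟩ := hVs z hz
    have ha00 : a0 ≠ 0 := fun h1 => hz1 (Subtype.ext (by
      show (z : G) = 1
      rw [← ha0, h1, h0 hVa]))
    obtain ⟨a, rfl⟩ := hVs v hv
    rcases eq_or_ne a 0 with rfl | ha
    · rw [h0 hVa, one_mul, mul_one]
    obtain ⟨k, hk⟩ : pairPerm F (diag (Units.mk0 (a / a0) (div_ne_zero ha ha00))) ∈ fH.range :=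
      hrange ▸ ⟨_, rfl⟩
    have hkz : (k : G) * φV a0 * (k : G)⁻¹ = φV a := by
      have h1 := congrArg (fun z => ((e z : W) : G)) (Equiv.ext_iff.1 hk (a0, 0))
      simp only [fH, f, MonoidHom.coe_comp, Function.comp_apply, MonoidHom.mk'_apply, Equiv.coe_fn_mk,
        Equiv.apply_symm_apply, Subgroup.coe_inclusion] at h1
      change (k : G) * (φV a0 * φX 0) * (k : G)⁻¹ = _ at h1
      rw [h0 hXa, mul_one] at h1
      rw [h1]
      show φV _ * φX _ = _
      simp [pairPerm, diag, ofEntries, h0 hXa, div_mul_cancel₀, ha00]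
    have hkM : (k : G) ∈ D.M := D.ti (k : G) (φV a0) (hVm _)
      (fun h1 => ha00 (hVi (h1.trans (h0 hVa).symm))) (hkz ▸ hVm a)
    have hq' : (k : G)⁻¹ * q * k ∈ D.Q := by simpa using D.Q_normal _ (inv_mem hkM) q hq
    have h2 : φV a0 * ((k : G)⁻¹ * q * k) = (k : G)⁻¹ * q * k * φV a0 := by
      have := congrArg Subtype.val (Subgroup.mem_center_iff.1 hzc ⟨_, hq'⟩)
      simpa [← ha0] using this.symm
    rw [← hkz]
    have h3 := congrArg (fun y => (k : G) * y * (k : G)⁻¹) h2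
    simpa [mul_assoc] using h3
  refine ⟨hPQ, ?_⟩
  have hcomm : ⁅D.Q, D.Q⁆ ≤ D.V := Subgroup.commutator_le.2 fun a ha b hb =>
    D.comm_mem (hPQ.symm ▸ ha) (hPQ.symm ▸ hb)
  have hV_le : D.V ≤ ⁅D.Q, D.Q⁆ := by
    intro v hv
    obtain ⟨a, rfl⟩ := hVs v hv
    rw [← one_mul a, ← hmul]
    exact Subgroup.commutator_mem_commutator (D.P_le_Q (hp.mem_P_left (hXm _))) (D.P_le_Q (hp.mem_P_right (hYm _)))
  haveI : Fact (Nat.Prime 2) := ⟨Nat.prime_two⟩
  refine ⟨le_antisymm hcomm hV_le, le_antisymm ?_ ?_, ?_⟩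
  · refine Cfsg.Agent.Lib.PFrattini.frattini_map_subtype_le (p := 2) hcomm fun x hx => ?_
    rw [pow_two]
    exact D.sq_mem (hPQ.symm ▸ hx)
  · refine hV_le.trans ?_
    rw [← map_subtype_commutator]
    exact Subgroup.map_mono (Cfsg.Agent.Lib.PFrattini.commutator_le_frattini D.Q_pgroup)
  · ext z
    constructor
    · rintro ⟨⟨z, hzQ⟩, hzc, rfl⟩
      exact D.center_P (hPQ.symm ▸ hzQ) fun p hp' =>
        (congrArg Subtype.val (Subgroup.mem_center_iff.1 hzc ⟨p, D.P_le_Q hp'⟩)).symm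
    · intro hz
      refine ⟨⟨z, D.V_le hz⟩, Subgroup.mem_center_iff.2 fun q => Subtype.ext ?_, rfl⟩
      exact (D.P_comm_V (hPQ.symm ▸ q.2) hz).symm

end Hyp

end Cfsg.Agent.TISL2
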